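import Mathlib
import Cfsg.Agent.OddCyclic.GamBase
import Cfsg.Agent.ZN.Facts
import Cfsg.Agent.OddCyclic.GamFar
import Cfsg.Agent.Mrg.Omega.NOThree.Ru.Plane

section


/-!
# The Ru configuration (helper881, NO-3a.4, bb #12858): the structure

`Ru V z`: `V` is a four-group containing the involution `z`, points are the conjugates of `z`, lines the conjugates
of `V`, `W_x = ws V x` is generated by the lines on `x`; `W_z` is elementary abelian of order 32 and `C_G(z)` induces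
`A₅` or `S₅` on the natural module `W_z/⟨z⟩`. The general part of helper794's `OddCyclic.GamBase` is repeated for
`Ru` (there `G` has cyclic Sylow subgroups for odd primes).

* `Ru.conj`, `Ru.loc_pt`, `Ru.norm`, `Ru.exists_line`, `Ru.mem_symm`;
* `Ru.exists_neg`, `Ru.exists_hom`: the kernel induces all of `Hom(ws V x/⟨x⟩, ⟨x⟩)`; `Ru.trans_ws`.
-/

set_option autoImplicit false
set_option linter.dupNamespace false
set_option linter.unusedSectionVars false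

namespace Cfsg.Agent.Omega.RuShape.Base

open Subgroup Cfsg Cfsg.Agent.ZN Cfsg.Agent.MinSimple.Geo Cfsg.Agent.MinSimple.OddBase
open Cfsg.Agent.OddCyclic Cfsg.Agent.OddCyclic.GamPerm Cfsg.Agent.OddCyclic.GamMod Cfsg.Agent.OddCyclic.GamLoc
open Cfsg.Agent.OddCyclic.GamBase (cc cc_surj cg_conj loc_conj ws_cj' lines_cj')

universe u

variable {G : Type u} [Group G]

/-- The Ru configuration: `|V| = 4`, `W_z = ws V z` is elementary abelian of order 32, `C_G(z)` induces `A₅` or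
`S₅ = ΓL₂(4)` on the natural module `W_z/⟨z⟩`, no nontrivial 2-subgroup is normalised by `N_G(V)` and `C_G(z)`,
`[W_x, W_y] ≠ 1` for collinear points, centralisers of involutions have characteristic 2. -/
structure Ru (V : Subgroup G) (z : G) : Prop where
  card_V : Nat.card V = 4
  sq : ∀ v ∈ V, v * v = 1
  z_mem : z ∈ V
  trans : ∀ v ∈ V, v ≠ 1 → ∃ g ∈ normalizer (V : Set G), g * z * g⁻¹ = v
  move : ∃ t ∈ centralizer ({z} : Set G), ∃ v ∈ V, t * v * t⁻¹ = v * z ∧ v ≠ 1 ∧ v ≠ z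
  loc : ∃ ρ, Loc (ws V z) z ρ
  core : ∀ U : Subgroup G, IsPGroup 2 U → normalizer (V : Set G) ≤ normalizer (U : Set G) →
    centralizer ({z} : Set G) ≤ normalizer (U : Set G) → U = ⊥
  noncomm : ∀ v ∈ V, v ≠ 1 → v ≠ z → ∃ a ∈ ws V z, ∃ b ∈ ws V v, a * b ≠ b * a
  c2 : ∀ v : G, v * v = 1 → v ≠ 1 → ∃ O : Subgroup G, IsPGroup 2 O ∧ O ≤ centralizer ({v} : Set G) ∧
    centralizer ({v} : Set G) ≤ normalizer (O : Set G) ∧
    ∀ c ∈ centralizer ({v} : Set G), c ∈ centralizer (O : Set G) → c ∈ O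

namespace Ru

variable {V : Subgroup G} {z : G}

theorem z_ne (h : Ru V z) : z ≠ 1 := by
  obtain ⟨ρ, hρ⟩ := h.loc
  exact hρ.x_ne

theorem conj (h : Ru V z) (g : G) : Ru (cj g V) (g * z * g⁻¹) where
  card_V := by rw [card_cj]; exact h.card_V
  sq := by
    intro v hv
    rw [mem_cj] at hv
    have := h.sq _ hv
    have e : v * v = g * (g⁻¹ * v * g * (g⁻¹ * v * g)) * g⁻¹ := by group
    rw [e, this]; group
  z_mem := conj_mem_cj h.z_mem
  trans := by
    intro v hv hv1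
    rw [mem_cj] at hv
    obtain ⟨k, hk, hk2⟩ := h.trans _ hv (fun e => hv1 (by
      have : v = g * (g⁻¹ * v * g) * g⁻¹ := by group
      rw [this, e]; group))
    refine ⟨g * k * g⁻¹, ?_, ?_⟩
    · rw [← cj_normalizer]; exact conj_mem_cj hk
    · calc g * k * g⁻¹ * (g * z * g⁻¹) * (g * k * g⁻¹)⁻¹ = g * (k * z * k⁻¹) * g⁻¹ := by group
        _ = v := by rw [hk2]; group
  move := by
    obtain ⟨t, ht, v, hv, h1, h2, h3⟩ := h.move
    refine ⟨g * t * g⁻¹, ?_, g * v * g⁻¹, conj_mem_cj hv, ?_, conj_ne_one h2, fun e => h3 (conj_inj e)⟩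
    · rw [← cj_centralizer_singleton]; exact conj_mem_cj ht
    · calc g * t * g⁻¹ * (g * v * g⁻¹) * (g * t * g⁻¹)⁻¹ = g * (t * v * t⁻¹) * g⁻¹ := by group
        _ = g * v * g⁻¹ * (g * z * g⁻¹) := by rw [h1]; group
  loc := by
    obtain ⟨ρ, hρ⟩ := h.loc
    refine ⟨ρ.comp (cc g z), ?_⟩
    rw [ws_cj', ← cj_ws]
    exact loc_conj hρ g
  core := by
    intro U hU h1 h2
    have h3 := h.core (cj g⁻¹ U) (hU.map _) (by
      rw [← cj_normalizer, ← cj_le_iff, cj_normalizer]; exact h1) (by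
      rw [← cj_normalizer, ← cj_le_iff, cj_centralizer_singleton]; exact h2)
    have := congrArg (cj g) h3
    rw [cj_cj_inv] at this
    rw [this]
    exact Subgroup.map_bot _
  noncomm := by
    intro v hv hv1 hvz
    rw [mem_cj] at hv
    have e : v = g * (g⁻¹ * v * g) * g⁻¹ := by group
    obtain ⟨a, ha, b, hb, hab⟩ := h.noncomm _ hv (fun e1 => hv1 (by rw [e, e1]; group))
      (fun e1 => hvz (by rw [e, e1]))
    refine ⟨g * a * g⁻¹, ?_, g * b * g⁻¹, ?_, ?_⟩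
    · rw [ws_cj', ← cj_ws]; exact conj_mem_cj ha
    · rw [ws_cj', e, ← cj_ws]; exact conj_mem_cj hb
    · intro e1
      apply hab
      have e2 : g * (a * b) * g⁻¹ = g * (b * a) * g⁻¹ := by
        calc g * (a * b) * g⁻¹ = g * a * g⁻¹ * (g * b * g⁻¹) := by group
          _ = g * b * g⁻¹ * (g * a * g⁻¹) := e1
          _ = g * (b * a) * g⁻¹ := by group
      exact conj_inj e2
  c2 := h.c2

/-- every point is the point of a flag conjugate to `(z, V)` -/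
theorem exists_ru (h : Ru V z) {x : G} (hx : Pt z x) :
    ∃ g : G, x = g * z * g⁻¹ ∧ Ru (cj g V) x := by
  obtain ⟨g, rfl⟩ := hx
  exact ⟨g, rfl, h.conj g⟩

theorem loc_pt (h : Ru V z) {x : G} (hx : Pt z x) : ∃ ρ, Loc (ws V x) x ρ := by
  obtain ⟨g, rfl⟩ := hx
  have := (h.conj g).loc
  rwa [ws_cj'] at this

theorem ne_one (h : Ru V z) {x : G} (hx : Pt z x) : x ≠ 1 := by
  obtain ⟨ρ, hρ⟩ := h.loc_pt hx
  exact hρ.x_ne

theorem self_mem (h : Ru V z) {x : G} (hx : Pt z x) : x ∈ ws V x := by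
  obtain ⟨ρ, hρ⟩ := h.loc_pt hx
  exact hρ.x_mem

theorem comm (h : Ru V z) {x : G} (hx : Pt z x) {a b : G} (ha : a ∈ ws V x) (hb : b ∈ ws V x) :
    a * b = b * a := by
  obtain ⟨ρ, hρ⟩ := h.loc_pt hx
  exact hρ.comm a ha b hb

theorem sq_ws (h : Ru V z) {x : G} (hx : Pt z x) {a : G} (ha : a ∈ ws V x) : a * a = 1 := by
  obtain ⟨ρ, hρ⟩ := h.loc_pt hx
  exact hρ.sq a ha

theorem xx (h : Ru V z) {x : G} (hx : Pt z x) : x * x = 1 := h.sq_ws hx (h.self_mem hx)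

theorem inv_ws (h : Ru V z) {x : G} (hx : Pt z x) {a : G} (ha : a ∈ ws V x) : a⁻¹ = a :=
  inv_eq_of_mul_eq_one_left (h.sq_ws hx ha)

theorem ws_le (h : Ru V z) {x : G} (hx : Pt z x) : ws V x ≤ centralizer ({x} : Set G) := by
  obtain ⟨ρ, hρ⟩ := h.loc_pt hx
  exact hρ.le_centralizer

theorem pt_of_mem_line (h : Ru V z) {L : Subgroup G} {x y : G} (hL : L ∈ lines V x) (hy : y ∈ L)
    (hy1 : y ≠ 1) : Pt z y := by
  obtain ⟨⟨g, rfl⟩, _⟩ := hL
  rw [mem_cj] at hy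
  obtain ⟨k, _, hk⟩ := h.trans _ hy (fun e => hy1 (by
    have : y = g * (g⁻¹ * y * g) * g⁻¹ := by group
    rw [this, e]; group))
  refine ⟨g * k, ?_⟩
  have : y = g * (g⁻¹ * y * g) * g⁻¹ := by group
  rw [this, ← hk]; group

theorem norm (h : Ru V z) {x : G} (hx : Pt z x) {c w : G} (hc : c * x = x * c) (hw : w ∈ ws V x) :
    c * w * c⁻¹ ∈ ws V x := by
  obtain ⟨ρ, hρ⟩ := h.loc_pt hx
  exact hρ.norm c (mem_centralizer_singleton_iff.mpr hc) w hw

/-- all elements of `ws V x` outside `⟨x⟩` are on lines through `x` -/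
theorem exists_line (h : Ru V z) {x u : G} (hx : Pt z x) (hu : u ∈ ws V x) (hu1 : u ≠ 1) (hux : u ≠ x) :
    ∃ L ∈ lines V x, u ∈ L := by
  obtain ⟨g, hg, hG⟩ := h.exists_ru hx
  obtain ⟨ρ, hρ⟩ := h.loc_pt hx
  obtain ⟨t, _, v, hv, _, hv1, hvx⟩ := hG.move
  have hVx : cj g V ∈ lines V x := ⟨⟨g, rfl⟩, hG.z_mem⟩
  have hvW : v ∈ ws V x := le_ws hVx hv
  obtain ⟨c, _, hc⟩ := hρ.trans hvW hu hv1 hvx hu1 hux
  have hcx : (c : G) * x = x * c := mem_centralizer_singleton_iff.mp c.2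
  have hL := mem_lines_cj (g := (c : G)) hVx
  rw [hcx, mul_inv_cancel_right] at hL
  refine ⟨_, hL, ?_⟩
  have h1 : (c : G) * v * (c : G)⁻¹ ∈ cj (c : G) (cj g V) := conj_mem_cj hv
  rcases hc with e | e
  · rw [← e]; exact h1
  · have : u = (c : G) * v * (c : G)⁻¹ * x := by rw [e, mul_assoc, hρ.xx, mul_one]
    rw [this]; exact mul_mem h1 hL.2

theorem col (h : Ru V z) {x u : G} (hx : Pt z x) (hu : u ∈ ws V x) (hu1 : u ≠ 1) (hux : u ≠ x) :
    Col V x u := by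
  obtain ⟨L, hL, huL⟩ := h.exists_line hx hu hu1 hux
  exact ⟨h.ne_one hx, hu1, hux.symm, L, hL, huL⟩

theorem pt (h : Ru V z) {x u : G} (hx : Pt z x) (hu : u ∈ ws V x) (hu1 : u ≠ 1) : Pt z u := by
  by_cases hux : u = x
  · rw [hux]; exact hx
  · obtain ⟨L, hL, huL⟩ := h.exists_line hx hu hu1 hux
    exact h.pt_of_mem_line hL huL hu1

theorem mem_symm (h : Ru V z) {x u : G} (hx : Pt z x) (hu : u ∈ ws V x) (hu1 : u ≠ 1) : x ∈ ws V u := by
  by_cases hux : u = x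
  · rw [hux]; exact h.self_mem hx
  · exact (h.col hx hu hu1 hux).symm.mem_ws

/-! ### the kernel -/

theorem fix_of_ker {W : Subgroup G} {x : G} {ρ : centralizer ({x} : Set G) →* S5} (h : Loc W x ρ)
    (hK : ∀ k, ρ k = 1 → ∀ w ∈ W, (k : G) * w * (k : G)⁻¹ = w) {c : centralizer ({x} : Set G)}
    (hc : ρ c * ρ c = 1) {v : G} (hv : v ∈ W) (hcv : Cg x ((c : G) * v * (c : G)⁻¹) v) :
    (c : G) * v * (c : G)⁻¹ = v := by
  by_cases hc1 : ρ c = 1
  · exact hK c hc1 v hv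
  · obtain ⟨w, hw, hvw⟩ := h.exists_comm hc hc1 (h.mem_cx.mpr ⟨hv, hcv⟩)
    have h1 : (c : G) * ((c : G) * w * (c : G)⁻¹ * w) * (c : G)⁻¹ = (c : G) * w * (c : G)⁻¹ * w := by
      have h2 := hK (c * c) (by rw [map_mul, hc]) w hw
      have e : ((c * c : centralizer ({x} : Set G)) : G) = c * c := rfl
      rw [e] at h2
      calc (c : G) * ((c : G) * w * (c : G)⁻¹ * w) * (c : G)⁻¹ =
          ((c : G) * c * w * ((c : G) * c)⁻¹) * ((c : G) * w * (c : G)⁻¹) := by group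
        _ = w * ((c : G) * w * (c : G)⁻¹) := by rw [h2]
        _ = (c : G) * w * (c : G)⁻¹ * w := h.comm w hw _ (h.norm c c.2 w hw)
    rcases hvw with e | e
    · rw [e]; exact h1
    · have h3 : (c : G) * x * (c : G)⁻¹ = x := by
        rw [mem_centralizer_singleton_iff.mp c.2, mul_inv_cancel_right]
      rw [e]
      calc (c : G) * ((c : G) * w * (c : G)⁻¹ * w * x) * (c : G)⁻¹ =
          ((c : G) * ((c : G) * w * (c : G)⁻¹ * w) * (c : G)⁻¹) * ((c : G) * x * (c : G)⁻¹) := by group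
        _ = (c : G) * w * (c : G)⁻¹ * w * x := by rw [h1, h3]

/-- the kernel moves every element of `ws V x` outside `⟨x⟩` -/
theorem exists_neg (h : Ru V z) {x : G} (hx : Pt z x) {ρ : centralizer ({x} : Set G) →* S5}
    (hρ : Loc (ws V x) x ρ) {u : G} (hu : u ∈ ws V x) (hu1 : u ≠ 1) (hux : u ≠ x) :
    ∃ k, ρ k = 1 ∧ (k : G) * u * (k : G)⁻¹ = u * x := by
  by_contra hcon
  push Not at hcon
  have hfix : ∀ k, ρ k = 1 → (k : G) * u * (k : G)⁻¹ = u := by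
    intro k hk
    rcases (hρ.ker k).mp hk u hu with e | e
    · exact e
    · exact absurd e (hcon k hk)
  let U : Subgroup G :=
    { carrier := {w | w ∈ ws V x ∧ ∀ k, ρ k = 1 → (k : G) * w * (k : G)⁻¹ = w}
      one_mem' := ⟨one_mem _, fun k _ => by group⟩
      mul_mem' := by
        rintro a b ⟨ha, ha'⟩ ⟨hb, hb'⟩
        refine ⟨mul_mem ha hb, fun k hk => ?_⟩
        calc (k : G) * (a * b) * (k : G)⁻¹ = (k : G) * a * (k : G)⁻¹ * ((k : G) * b * (k : G)⁻¹) := by group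
          _ = a * b := by rw [ha' k hk, hb' k hk]
      inv_mem' := by
        rintro a ⟨ha, ha'⟩
        refine ⟨inv_mem ha, fun k hk => ?_⟩
        calc (k : G) * a⁻¹ * (k : G)⁻¹ = ((k : G) * a * (k : G)⁻¹)⁻¹ := by group
          _ = a⁻¹ := by rw [ha' k hk] }
  have hxU : x ∈ U := ⟨hρ.x_mem, fun k _ => by
    rw [mem_centralizer_singleton_iff.mp k.2, mul_inv_cancel_right]⟩
  have hinv : ∀ c ∈ centralizer ({x} : Set G), ∀ w ∈ U, c * w * c⁻¹ ∈ U := by
    rintro c hc w ⟨hw, hw'⟩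
    refine ⟨hρ.norm c hc w hw, fun k hk => ?_⟩
    have h1 := hw' (⟨c, hc⟩⁻¹ * k * ⟨c, hc⟩) (by rw [map_mul, map_mul, hk, mul_one, map_inv, inv_mul_cancel])
    have e : (((⟨c, hc⟩⁻¹ * k * ⟨c, hc⟩ : centralizer ({x} : Set G))) : G) = c⁻¹ * k * c := rfl
    rw [e] at h1
    calc (k : G) * (c * w * c⁻¹) * (k : G)⁻¹ = c * (c⁻¹ * k * c * w * (c⁻¹ * k * c)⁻¹) * c⁻¹ := by group
      _ = c * w * c⁻¹ := by rw [h1]
  have hK : ∀ k, ρ k = 1 → ∀ w ∈ ws V x, (k : G) * w * (k : G)⁻¹ = w := by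
    intro k hk w hw
    have : w ∈ U := hρ.irr hxU hinv (u := u) ⟨hu, hfix⟩ hu hu1 hux hw
    exact this.2 k hk
  obtain ⟨g, hg, hG⟩ := h.exists_ru hx
  obtain ⟨t, ht, v, hv, htv, hv1, hvx⟩ := hG.move
  have hvW : v ∈ ws V x := le_ws (⟨⟨g, rfl⟩, hG.z_mem⟩ : cj g V ∈ lines V x) hv
  obtain ⟨i, hi⟩ := hρ.exists_pg hvW
  have hti : ρ ⟨t, ht⟩ i = i := hρ.idx_fix hi hv1 hvx (c := ⟨t, ht⟩) (Or.inr htv)
  rcases exists_k4_mul i _ hti with h3 | ⟨k, hk4, hk⟩
  · rcases hρ.fpf ⟨t, ht⟩ h3 v hvW (Or.inr htv) with e | e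
    · exact hv1 e
    · exact hvx e
  · obtain ⟨d, rfl⟩ := hρ.even k hk4.2.1
    have hd := hρ.fix_of_k4 hk4 hi
    have h1 := fix_of_ker hρ hK hk4.2.2 hvW hd
    have hdx : (d : G) * x * (d : G)⁻¹ = x := by
      rw [mem_centralizer_singleton_iff.mp d.2, mul_inv_cancel_right]
    have e : ((d * ⟨t, ht⟩ : centralizer ({x} : Set G)) : G) = d * t := rfl
    have h2 : (d : G) * t * v * ((d : G) * t)⁻¹ = v * x := by
      calc (d : G) * t * v * ((d : G) * t)⁻¹ = (d : G) * (t * v * t⁻¹) * (d : G)⁻¹ := by group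
        _ = ((d : G) * v * (d : G)⁻¹) * ((d : G) * x * (d : G)⁻¹) := by rw [htv]; group
        _ = v * x := by rw [h1, hdx]
    have h4 := fix_of_ker hρ hK (c := d * ⟨t, ht⟩) (by rw [map_mul]; exact hk) hvW (by
      rw [e, h2]; exact Or.inr rfl)
    rw [e, h2] at h4
    exact hρ.x_ne (by simpa using h4)

theorem hom_aux (h : Ru V z) {x : G} (hx : Pt z x) {ρ : centralizer ({x} : Set G) →* S5}
    (hρ : Loc (ws V x) x ρ) {p q : G} (hp : p ∈ ws V x) (hq : q ∈ ws V x) (hp1 : p ≠ 1) (hpx : p ≠ x)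
    (hpq : p ≠ q) (hpqx : p * q ≠ x) :
    ∃ k, ρ k = 1 ∧ (k : G) * p * (k : G)⁻¹ = p * x ∧ (k : G) * q * (k : G)⁻¹ = q := by
  have hxc : ∀ k : centralizer ({x} : Set G), (k : G) * x * (k : G)⁻¹ = x := fun k => by
    rw [mem_centralizer_singleton_iff.mp k.2, mul_inv_cancel_right]
  have hpq1 : p * q ≠ 1 := fun e => hpq (by rw [mul_eq_one_iff_eq_inv.mp e, hρ.inv hq])
  obtain ⟨k, hk, h1⟩ := h.exists_neg hx hρ hp hp1 hpx
  rcases (hρ.ker k).mp hk q hq with h2 | h2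
  · exact ⟨k, hk, h1, h2⟩
  · obtain ⟨l, hl, h3⟩ := h.exists_neg hx hρ (mul_mem hp hq) hpq1 hpqx
    have h3' : (l : G) * p * (l : G)⁻¹ * ((l : G) * q * (l : G)⁻¹) = p * q * x := by
      rw [← h3]; group
    rcases (hρ.ker l).mp hl p hp with h4 | h4
    · -- `l` fixes `p`, moves `q`
      rw [h4] at h3'
      have h5 : (l : G) * q * (l : G)⁻¹ = q * x := by
        have := congrArg (fun t => p⁻¹ * t) h3'
        simpa [mul_assoc] using this
      refine ⟨k * l, by rw [map_mul, hk, hl, one_mul], ?_, ?_⟩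
      · change (k : G) * l * p * ((k : G) * l)⁻¹ = _
        calc (k : G) * l * p * ((k : G) * l)⁻¹ = (k : G) * ((l : G) * p * (l : G)⁻¹) * (k : G)⁻¹ := by group
          _ = p * x := by rw [h4, h1]
      · change (k : G) * l * q * ((k : G) * l)⁻¹ = _
        calc (k : G) * l * q * ((k : G) * l)⁻¹ = (k : G) * ((l : G) * q * (l : G)⁻¹) * (k : G)⁻¹ := by group
          _ = ((k : G) * q * (k : G)⁻¹) * ((k : G) * x * (k : G)⁻¹) := by rw [h5]; group
          _ = q := by rw [h2, hxc, mul_assoc, hρ.xx, mul_one]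
    · rw [h4] at h3'
      have h5 : (l : G) * q * (l : G)⁻¹ = q := by
        have h6 : p * x * ((l : G) * q * (l : G)⁻¹) = p * x * q := by
          rw [h3', mul_assoc, mul_assoc, hρ.comm q hq x hρ.x_mem]
        exact mul_left_cancel h6
      exact ⟨l, hl, h4, h5⟩

/-- the kernel induces all of `Hom(W/⟨x⟩, ⟨x⟩)` (on two-dimensional subspaces) -/
theorem exists_hom (h : Ru V z) {x : G} (hx : Pt z x) {ρ : centralizer ({x} : Set G) →* S5}
    (hρ : Loc (ws V x) x ρ) {p q : G} (hp : p ∈ ws V x) (hq : q ∈ ws V x) (hp1 : p ≠ 1) (hpx : p ≠ x)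
    (hq1 : q ≠ 1) (hqx : q ≠ x) (hpq : p ≠ q) (hpqx : p * q ≠ x) {e f : G} (he : e = 1 ∨ e = x)
    (hf : f = 1 ∨ f = x) :
    ∃ k, ρ k = 1 ∧ (k : G) * p * (k : G)⁻¹ = p * e ∧ (k : G) * q * (k : G)⁻¹ = q * f := by
  have hxc : ∀ k : centralizer ({x} : Set G), (k : G) * x * (k : G)⁻¹ = x := fun k => by
    rw [mem_centralizer_singleton_iff.mp k.2, mul_inv_cancel_right]
  obtain ⟨k, hk, h1, h2⟩ := h.hom_aux hx hρ hp hq hp1 hpx hpq hpqx
  obtain ⟨l, hl, h3, h4⟩ := h.hom_aux hx hρ hq hp hq1 hqx hpq.symm (by rwa [hρ.comm q hq p hp])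
  rcases he with rfl | rfl
  · rcases hf with rfl | rfl
    · exact ⟨1, map_one _, by simp, by simp⟩
    · exact ⟨l, hl, by rw [h4, mul_one], h3⟩
  · rcases hf with rfl | hf
    · exact ⟨k, hk, h1, by rw [h2, mul_one]⟩
    · rw [hf]
      refine ⟨k * l, by rw [map_mul, hk, hl, one_mul], ?_, ?_⟩
      · change (k : G) * l * p * ((k : G) * l)⁻¹ = _
        calc (k : G) * l * p * ((k : G) * l)⁻¹ = (k : G) * ((l : G) * p * (l : G)⁻¹) * (k : G)⁻¹ := by group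
          _ = _ := by rw [h4, h1]
      · change (k : G) * l * q * ((k : G) * l)⁻¹ = _
        calc (k : G) * l * q * ((k : G) * l)⁻¹ = (k : G) * ((l : G) * q * (l : G)⁻¹) * (k : G)⁻¹ := by group
          _ = ((k : G) * q * (k : G)⁻¹) * ((k : G) * e * (k : G)⁻¹) := by rw [h3]; group
          _ = _ := by rw [h2, hxc]

/-- `C_G(x)` is transitive on `ws V x` minus `⟨x⟩` -/
theorem trans_ws (h : Ru V z) {x : G} (hx : Pt z x) {u v : G} (hu : u ∈ ws V x) (hv : v ∈ ws V x)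
    (hu1 : u ≠ 1) (hux : u ≠ x) (hv1 : v ≠ 1) (hvx : v ≠ x) :
    ∃ c : G, c * x = x * c ∧ c * u * c⁻¹ = v := by
  obtain ⟨ρ, hρ⟩ := h.loc_pt hx
  obtain ⟨c, _, hc⟩ := hρ.trans hu hv hu1 hux hv1 hvx
  rcases hc with e | e
  · exact ⟨c, mem_centralizer_singleton_iff.mp c.2, e⟩
  · obtain ⟨k, _, hk⟩ := h.exists_neg hx hρ hv hv1 hvx
    refine ⟨k * c, mem_centralizer_singleton_iff.mp (k * c).2, ?_⟩
    have hxk : (k : G) * x * (k : G)⁻¹ = x := by
      rw [mem_centralizer_singleton_iff.mp k.2, mul_inv_cancel_right]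
    calc (k : G) * c * u * ((k : G) * c)⁻¹ = (k : G) * ((c : G) * u * (c : G)⁻¹) * (k : G)⁻¹ := by group
      _ = ((k : G) * v * (k : G)⁻¹) * ((k : G) * x * (k : G)⁻¹) := by rw [e]; group
      _ = v := by rw [hk, hxk, mul_assoc, hρ.xx, mul_one]

end Ru

end Cfsg.Agent.Omega.RuShape.Base

end

section


/-!
# The Ru configuration: `C_G(W_x)`, `C_G(V)`, `K_x` are 2-groups

helper881's text #12858, (2.1): the subgroup `ob V x` generated by the elements of odd order of `C_G(W_x)` is the same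
for collinear points.

* `Ru.odd_eq_one`: an element of odd order of `C_G(x)` which fixes an element of `W_x` outside `⟨x⟩` modulo `⟨x⟩` is
  trivial;
* `Ru.exists_three`, `Ru.star'`, `Ru.star`: lifts of order three.
-/

set_option autoImplicit false
set_option linter.dupNamespace false
set_option linter.unusedSectionVars false

namespace Cfsg.Agent.Omega.RuShape.Base

open Subgroup Cfsg Cfsg.Agent.ZN Cfsg.Agent.MinSimple.Geo Cfsg.Agent.MinSimple.OddBase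
open Cfsg.Agent.OddCyclic Cfsg.Agent.OddCyclic.GamPerm Cfsg.Agent.OddCyclic.GamMod Cfsg.Agent.OddCyclic.GamLoc
open Cfsg.Agent.OddCyclic.GamBase (cc cc_surj cg_conj loc_conj ws_cj' lines_cj')
open Cfsg.Agent.ZN.Block (conj_mem_of_normalizer conj_mem_of_normalizer' le_normalizer_of_forall
  mem_normalizer_of)

universe u

variable {G : Type u} [Group G]

theorem s5_odd : ∀ i : Fin 5, ∀ g : S5, g i = i → g ^ 15 = 1 → g * g * g = 1 := by decide +kernel

theorem s5_pow {g : S5} (hg : Odd (orderOf g)) : g ^ 15 = 1 := by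
  rw [← orderOf_dvd_iff_pow_eq_one]
  have h1 : orderOf g ∣ 8 * 15 := by
    have h2 : orderOf g ∣ Fintype.card S5 := orderOf_dvd_card
    have h3 : Fintype.card S5 = 120 := by
      rw [Fintype.card_perm]; rfl
    rwa [h3] at h2
  refine (Nat.Coprime.dvd_of_dvd_mul_left ?_ h1)
  have h4 : Nat.Coprime (orderOf g) 2 := Nat.coprime_two_right.mpr hg
  exact Nat.Coprime.pow_right 3 h4

theorem odd_comm {g a : G} (hg : Odd (orderOf g)) (h : g * g * a = a * (g * g)) : g * a = a * g := by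
  obtain ⟨k, hk⟩ := hg
  have e : g = (g * g) ^ (k + 1) := by
    have h1 := pow_orderOf_eq_one g
    rw [hk] at h1
    have h2 : (g * g) ^ (k + 1) = g ^ (2 * k + 1) * g := by
      rw [← pow_two, ← pow_mul, ← pow_succ]
      congr 1
    rw [h2, h1, one_mul]
  have h3 : Commute (g * g) a := h
  have h4 := h3.pow_left (k + 1)
  rw [← e] at h4
  exact h4

/-- an element of odd order which acts trivially modulo `⟨x⟩` acts trivially -/
theorem odd_cg {x g a : G} (hx : x * x = 1) (hgx : g * x = x * g) (hg : Odd (orderOf g))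
    (h : Cg x (g * a * g⁻¹) a) : g * a = a * g := by
  apply odd_comm hg
  have hgx' : g * x * g⁻¹ = x := by rw [hgx, mul_inv_cancel_right]
  rcases h with e | e
  · have h1 : g * a = a * g := mul_inv_eq_iff_eq_mul.mp e
    calc g * g * a = g * (g * a) := by group
      _ = g * (a * g) := by rw [h1]
      _ = g * a * g := by group
      _ = a * g * g := by rw [h1]
      _ = a * (g * g) := by group
  · apply mul_inv_eq_iff_eq_mul.mp
    calc g * g * a * (g * g)⁻¹ = g * (g * a * g⁻¹) * g⁻¹ := by group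
      _ = g * (a * x) * g⁻¹ := by rw [e]
      _ = (g * a * g⁻¹) * (g * x * g⁻¹) := by group
      _ = a := by rw [e, hgx', mul_assoc, hx, mul_one]

theorem isPGroup_of_odd [Finite G] {K : Subgroup G} (h : ∀ g ∈ K, Odd (orderOf g) → g = 1) :
    IsPGroup 2 K := by
  rintro ⟨g, hg⟩
  obtain ⟨k, m, hm, e⟩ := Nat.exists_eq_two_pow_mul_odd (orderOf_pos g).ne'
  refine ⟨k, Subtype.ext ?_⟩
  change g ^ 2 ^ k = 1
  refine h _ (pow_mem hg _) ?_
  have h1 : orderOf (g ^ 2 ^ k) = m := by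
    rw [orderOf_pow' g (pow_ne_zero k two_ne_zero), e, Nat.gcd_eq_right (Dvd.intro m rfl)]
    exact Nat.mul_div_cancel_left m (by positivity)
  rw [h1]; exact hm

/-- powers acting as the element itself -/
theorem conj_pow_three {c p : G} (hc : c ^ 3 * p = p * c ^ 3) (m : ℕ) :
    c ^ (3 * m + 1) * p * (c ^ (3 * m + 1))⁻¹ = c * p * c⁻¹ := by
  have h1 : (c ^ 3) ^ m * p = p * (c ^ 3) ^ m := by
    have : Commute (c ^ 3) p := hc
    exact this.pow_left m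
  have e : c ^ (3 * m + 1) = c * (c ^ 3) ^ m := by rw [← pow_mul, pow_succ']
  rw [e, mul_inv_rev, mul_assoc c, h1]
  group

/-- the subgroup generated by the elements of odd order of the centraliser of `ws V x` -/
def ob (V : Subgroup G) (x : G) : Subgroup G :=
  closure {g | (∀ w ∈ ws V x, g * w = w * g) ∧ Odd (orderOf g)}

theorem orderOf_conj' (g a : G) : orderOf (g * a * g⁻¹) = orderOf a := by
  have e : g * a * g⁻¹ = MulAut.conj g a := by simp
  rw [e]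
  exact orderOf_injective (MulAut.conj g).toMonoidHom (MulAut.conj g).injective a

theorem cj_ob_le (V : Subgroup G) (g x : G) : cj g (ob V x) ≤ ob V (g * x * g⁻¹) := by
  rw [cj_le_iff]
  unfold ob
  rw [closure_le]
  rintro a ⟨ha, ha2⟩
  rw [SetLike.mem_coe, mem_cj, inv_inv]
  apply Subgroup.subset_closure
  refine ⟨?_, by rw [orderOf_conj']; exact ha2⟩
  intro w hw
  rw [← cj_ws, mem_cj] at hw
  have h1 := ha _ hw
  calc g * a * g⁻¹ * w = g * (a * (g⁻¹ * w * g)) * g⁻¹ := by group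
    _ = g * ((g⁻¹ * w * g) * a) * g⁻¹ := by rw [h1]
    _ = w * (g * a * g⁻¹) := by group

theorem cj_ob (V : Subgroup G) (g x : G) : cj g (ob V x) = ob V (g * x * g⁻¹) := by
  apply le_antisymm (cj_ob_le V g x)
  have h1 := cj_ob_le V g⁻¹ (g * x * g⁻¹)
  have e : g⁻¹ * (g * x * g⁻¹) * g⁻¹⁻¹ = x := by group
  rw [e] at h1
  have h2 := cj_mono (g := g) h1
  rwa [cj_cj_inv] at h2

theorem ob_comm {V : Subgroup G} {x k w : G} (hk : k ∈ ob V x) (hw : w ∈ ws V x) : k * w = w * k := by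
  have h1 : ob V x ≤ centralizer ({w} : Set G) := by
    unfold ob
    rw [closure_le]
    rintro a ⟨ha, _⟩
    exact mem_centralizer_singleton_iff.mpr (ha w hw)
  exact mem_centralizer_singleton_iff.mp (h1 hk)

namespace Ru

variable {V : Subgroup G} {z : G}

/-- an element of odd order of `C_G(p)` which fixes an element outside `⟨p⟩` modulo `⟨p⟩` centralises `ws V p` -/
theorem odd_cent (h : Ru V z) {p : G} (hp : Pt z p) {g : G} (hg : Odd (orderOf g)) (hgp : g * p = p * g)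
    {w : G} (hw : w ∈ ws V p) (hw1 : w ≠ 1) (hwp : w ≠ p) (hgw : Cg p (g * w * g⁻¹) w) {a : G}
    (ha : a ∈ ws V p) : g * a = a * g := by
  obtain ⟨ρ, hρ⟩ := h.loc_pt hp
  have hgC : g ∈ centralizer ({p} : Set G) := mem_centralizer_singleton_iff.mpr hgp
  obtain ⟨i, hi⟩ := hρ.exists_pg hw
  have h1 : ρ ⟨g, hgC⟩ i = i := hρ.idx_fix hi hw1 hwp (c := ⟨g, hgC⟩) hgw
  have h2 : Odd (orderOf (ρ ⟨g, hgC⟩)) := by
    have h3 : orderOf (ρ ⟨g, hgC⟩) ∣ orderOf g := by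
      have h4 := orderOf_map_dvd ρ ⟨g, hgC⟩
      rwa [Subgroup.orderOf_mk] at h4
    exact hg.of_dvd_nat h3
  have h3 := s5_odd i _ h1 (s5_pow h2)
  have h4 : ρ ⟨g, hgC⟩ = 1 := by
    by_contra hne
    rcases hρ.fpf ⟨g, hgC⟩ ⟨h3, hne⟩ w hw hgw with e | e
    · exact hw1 e
    · exact hwp e
  exact odd_cg hρ.xx hgp hg ((hρ.ker _).mp h4 a ha)

/-- the elements of odd order in `C_G(ws V x)` are the same for collinear points -/
theorem ob_le (h : Ru V z) {x p : G} (hx : Pt z x) (hp : p ∈ ws V x) (hp1 : p ≠ 1) :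
    ob V x ≤ ob V p := by
  by_cases hpx : p = x
  · rw [hpx]
  have hpp := h.pt hx hp hp1
  have hxp := h.mem_symm hx hp hp1
  conv_lhs => unfold ob
  rw [closure_le]
  rintro g ⟨hg, hg2⟩
  refine Subgroup.subset_closure ⟨?_, hg2⟩
  intro a ha
  refine h.odd_cent hpp hg2 (hg p hp) hxp (h.ne_one hx) (fun e => hpx e.symm) (Or.inl ?_) ha
  rw [hg x (h.self_mem hx), mul_inv_cancel_right]

theorem ob_eq (h : Ru V z) {x p : G} (hx : Pt z x) (hp : p ∈ ws V x) (hp1 : p ≠ 1) :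
    ob V x = ob V p :=
  le_antisymm (h.ob_le hx hp hp1) (h.ob_le (h.pt hx hp hp1) (h.mem_symm hx hp hp1) (h.ne_one hx))

theorem V_le_ws (h : Ru V z) : V ≤ ws V z := le_ws (⟨⟨1, (cj_one V).symm⟩, h.z_mem⟩ : V ∈ lines V z)

/-- (2.1) -/
theorem ob_eq_bot [Finite G] (h : Ru V z) : ob V z = ⊥ := by
  have hzp := Pt.refl z
  set K := ob V z with hK
  have hN : normalizer (V : Set G) ≤ normalizer (K : Set G) := by
    intro g hg
    rw [mem_normalizer_iff_cj, hK, cj_ob]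
    have h1 : g * z * g⁻¹ ∈ V := (mem_normalizer_iff.mp hg z).mp h.z_mem
    exact (h.ob_eq hzp (h.V_le_ws h1) (conj_ne_one h.z_ne)).symm
  have hC : centralizer ({z} : Set G) ≤ normalizer (K : Set G) := by
    intro g hg
    rw [mem_normalizer_iff_cj, hK, cj_ob]
    have h1 := mem_centralizer_singleton_iff.mp hg
    rw [h1, mul_inv_cancel_right]
  have hbot : o2 K = ⊥ := h.core _ (isPGroup_o2 K) (hN.trans (normalizer_le_normalizer_o2 K))
    (hC.trans (normalizer_le_normalizer_o2 K))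
  obtain ⟨O, hO2, hOC, hCO, hO⟩ := h.c2 z (h.xx hzp) h.z_ne
  have hKC : K ≤ centralizer ({z} : Set G) := fun k hk =>
    mem_centralizer_singleton_iff.mpr (ob_comm hk (h.self_mem hzp))
  have hI : K ⊓ O ≤ o2 K := by
    refine le_o2 inf_le_left (hO2.to_le inf_le_right) ?_
    refine le_normalizer_of_forall ?_
    rintro k hk o ⟨ho, ho'⟩
    refine ⟨K.mul_mem (K.mul_mem hk ho) (K.inv_mem hk), ?_⟩
    exact (mem_normalizer_iff.mp (hCO (hKC hk)) o).mp ho'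
  have hKO : K ≤ O := by
    intro k hk
    refine hO k (hKC hk) ?_
    rw [mem_centralizer_iff]
    intro o ho
    have h1 : k * o * k⁻¹ * o⁻¹ ∈ K ⊓ O := by
      constructor
      · have h2 : o * k⁻¹ * o⁻¹ ∈ K := (mem_normalizer_iff.mp (hC (hOC ho)) _).mp (K.inv_mem hk)
        have e : k * o * k⁻¹ * o⁻¹ = k * (o * k⁻¹ * o⁻¹) := by group
        rw [e]; exact K.mul_mem hk h2
      · have h2 : k * o * k⁻¹ ∈ O := (mem_normalizer_iff.mp (hCO (hKC hk)) o).mp ho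
        exact O.mul_mem h2 (O.inv_mem ho)
    have h2 := hI h1
    rw [hbot, mem_bot] at h2
    have h3 : k * o * k⁻¹ = o := mul_inv_eq_one.mp h2
    exact (mul_inv_eq_iff_eq_mul.mp h3).symm
  have h3 : K ≤ o2 K := le_o2 le_rfl (hO2.to_le hKO) le_normalizer
  rw [hbot] at h3
  exact le_bot_iff.mp h3

theorem ob_eq_bot' [Finite G] (h : Ru V z) {x : G} (hx : Pt z x) : ob V x = ⊥ := by
  obtain ⟨g, rfl⟩ := hx
  rw [← cj_ob, h.ob_eq_bot]
  exact Subgroup.map_bot _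

/-- (2.1): an element of odd order of `C_G(x)` which fixes an element of `W_x` outside `⟨x⟩` modulo `⟨x⟩` is trivial -/
theorem odd_eq_one [Finite G] (h : Ru V z) {x : G} (hx : Pt z x) {g : G} (hg : Odd (orderOf g))
    (hgx : g * x = x * g) {w : G} (hw : w ∈ ws V x) (hw1 : w ≠ 1) (hwx : w ≠ x)
    (hgw : Cg x (g * w * g⁻¹) w) : g = 1 := by
  have h1 : g ∈ ob V x := Subgroup.subset_closure ⟨fun a ha => h.odd_cent hx hg hgx hw hw1 hwx hgw ha, hg⟩
  rwa [h.ob_eq_bot' hx, mem_bot] at h1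

/-- `C_G(x, w)` is a 2-group -/
theorem isPGroup_pair [Finite G] (h : Ru V z) {x : G} (hx : Pt z x) {w : G} (hw : w ∈ ws V x)
    (hw1 : w ≠ 1) (hwx : w ≠ x) {K : Subgroup G} (hKx : ∀ k ∈ K, k * x = x * k)
    (hKw : ∀ k ∈ K, Cg x (k * w * k⁻¹) w) : IsPGroup 2 K :=
  isPGroup_of_odd fun g hg ho => h.odd_eq_one hx ho (hKx g hg) hw hw1 hwx (hKw g hg)

theorem exists_v (h : Ru V z) : ∃ v ∈ V, v ≠ 1 ∧ v ≠ z := by
  obtain ⟨_, _, v, hv, _, h1, h2⟩ := h.move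
  exact ⟨v, hv, h1, h2⟩

theorem exists_ws (h : Ru V z) {x : G} (hx : Pt z x) : ∃ w ∈ ws V x, w ≠ 1 ∧ w ≠ x := by
  obtain ⟨g, rfl⟩ := hx
  obtain ⟨v, hv, hv1, hvz⟩ := h.exists_v
  refine ⟨g * v * g⁻¹, ?_, conj_ne_one hv1, fun e => hvz (conj_inj e)⟩
  rw [← cj_ws]; exact conj_mem_cj (h.V_le_ws hv)

/-- the kernel of the action on `ws V x/⟨x⟩` is a 2-group -/
theorem isPGroup_ker [Finite G] (h : Ru V z) {x : G} (hx : Pt z x) {ρ : centralizer ({x} : Set G) →* S5}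
    (hρ : Loc (ws V x) x ρ) : IsPGroup 2 ρ.ker := by
  obtain ⟨w, hw, hw1, hwx⟩ := h.exists_ws hx
  have h1 : IsPGroup 2 (ρ.ker.map (centralizer ({x} : Set G)).subtype) := by
    refine h.isPGroup_pair hx hw hw1 hwx ?_ ?_
    · rintro _ ⟨k, _, rfl⟩
      exact mem_centralizer_singleton_iff.mp k.2
    · rintro _ ⟨k, hk, rfl⟩
      exact (hρ.ker k).mp hk w hw
  exact h1.of_equiv (ρ.ker.equivMapOfInjective _ (subtype_injective _)).symm

/-- the centraliser of `ws V x` is a 2-group -/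
theorem isPGroup_cw [Finite G] (h : Ru V z) {x : G} (hx : Pt z x) :
    IsPGroup 2 (centralizer (ws V x : Set G)) := by
  obtain ⟨w, hw, hw1, hwx⟩ := h.exists_ws hx
  have hc : ∀ k ∈ centralizer (ws V x : Set G), ∀ a ∈ ws V x, k * a = a * k := fun k hk a ha =>
    (mem_centralizer_iff.mp hk a ha).symm
  exact h.isPGroup_pair hx hw hw1 hwx (fun k hk => hc k hk x (h.self_mem hx)) fun k hk => Or.inl (by
    rw [hc k hk w hw, mul_inv_cancel_right])

/-- the kernel has no elements of order three -/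
theorem ker_three [Finite G] (h : Ru V z) {x : G} (hx : Pt z x) {ρ : centralizer ({x} : Set G) →* S5}
    (hρ : Loc (ws V x) x ρ) {k : centralizer ({x} : Set G)} (hk : ρ k = 1) (hk3 : (k : G) ^ 3 = 1) :
    (k : G) = 1 := by
  obtain ⟨w, hw, hw1, hwx⟩ := h.exists_ws hx
  refine h.odd_eq_one hx ?_ (mem_centralizer_singleton_iff.mp k.2) hw hw1 hwx ((hρ.ker k).mp hk w hw)
  have h1 : orderOf (k : G) ∣ 3 := orderOf_dvd_iff_pow_eq_one.mpr hk3
  exact (by decide : Odd 3).of_dvd_nat h1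

variable [Finite G]

/-- lifts of order three -/
theorem exists_three (h : Ru V z) {x : G} (hx : Pt z x) {ρ : centralizer ({x} : Set G) →* S5}
    (hρ : Loc (ws V x) x ρ) {c : centralizer ({x} : Set G)} (hc : O3 (ρ c)) :
    ∃ m : ℕ, (c : G) ^ ((3 * m + 1) * 3) = 1 ∧ ρ (c ^ (3 * m + 1)) = ρ c := by
  have hcop : Nat.Coprime (Nat.card ρ.ker) 3 := by
    rw [Nat.coprime_comm, Nat.Prime.coprime_iff_not_dvd Nat.prime_three]
    intro hd
    have : Fact (Nat.Prime 3) := ⟨Nat.prime_three⟩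
    obtain ⟨k, hk⟩ := exists_prime_orderOf_dvd_card' (G := ρ.ker) 3 hd
    have h1 : ((k : centralizer ({x} : Set G)) : G) ^ 3 = 1 := by
      have := pow_orderOf_eq_one k
      rw [hk] at this
      exact congrArg (fun t : ρ.ker => ((t : centralizer ({x} : Set G)) : G)) this
    have h2 := h.ker_three hx hρ (k := k.1) k.2 h1
    have h3 : k = 1 := Subtype.ext (Subtype.ext h2)
    rw [h3, orderOf_one] at hk
    exact absurd hk (by norm_num)
  obtain ⟨e, he1, he2⟩ := Nat.chineseRemainder hcop 0 1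
  obtain ⟨m, rfl⟩ : ∃ m, e = 3 * m + 1 := by
    have : e % 3 = 1 := he2
    exact ⟨e / 3, by omega⟩
  have hc3 : ρ c ^ 3 = 1 := by rw [pow_succ, pow_two]; exact hc.1
  refine ⟨m, ?_, ?_⟩
  · have h1 : c ^ 3 ∈ ρ.ker := by rw [MonoidHom.mem_ker, map_pow, hc3]
    have h2 : Nat.card ρ.ker ∣ 3 * m + 1 := (Nat.modEq_zero_iff_dvd.mp he1)
    have h3 : (⟨c ^ 3, h1⟩ : ρ.ker) ^ (3 * m + 1) = 1 := by
      obtain ⟨k, hk⟩ := h2
      rw [hk, pow_mul, pow_card_eq_one', one_pow]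
    have h4 : (c ^ 3) ^ (3 * m + 1) = 1 := congrArg Subtype.val h3
    have h5 : ((c : G) ^ 3) ^ (3 * m + 1) = 1 := congrArg Subtype.val h4
    rw [mul_comm, pow_mul]; exact h5
  · rw [map_pow, pow_succ, pow_mul, hc3, one_pow, one_mul]

/-- an element of order three modulo the kernel which rotates `p, q, pq` modulo `r` lifts to an element of order three
which rotates `p, q, pq` -/
theorem star' (h : Ru V z) {r : G} (hr : Pt z r) {ρ : centralizer ({r} : Set G) →* S5}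
    (hρ : Loc (ws V r) r ρ) {p q : G} (hp : p ∈ ws V r) (hq : q ∈ ws V r)
    (hp1 : p ≠ 1) (hpr : p ≠ r) (hq1 : q ≠ 1) (hqr : q ≠ r) (hpq : p ≠ q) (hpqr : p * q ≠ r)
    {c : centralizer ({r} : Set G)} (hc : O3 (ρ c)) (h1 : Cg r ((c : G) * p * (c : G)⁻¹) q)
    (h2 : Cg r ((c : G) * q * (c : G)⁻¹) (p * q)) :
    ∃ d : centralizer ({r} : Set G), ρ d = ρ c ∧ (d : G) ^ 3 = 1 ∧ (d : G) * p * (d : G)⁻¹ = q ∧
      (d : G) * q * (d : G)⁻¹ = p * q := by
  have hrc : ∀ k : centralizer ({r} : Set G), (k : G) * r * (k : G)⁻¹ = r := fun k => by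
    rw [mem_centralizer_singleton_iff.mp k.2, mul_inv_cancel_right]
  obtain ⟨e, he, h1'⟩ : ∃ e, (e = 1 ∨ e = r) ∧ (c : G) * p * (c : G)⁻¹ = q * e := by
    rcases h1 with h1 | h1
    · exact ⟨1, Or.inl rfl, by rw [h1, mul_one]⟩
    · exact ⟨r, Or.inr rfl, h1⟩
  obtain ⟨f, hf, h2'⟩ : ∃ f, (f = 1 ∨ f = r) ∧ (c : G) * q * (c : G)⁻¹ = p * q * f := by
    rcases h2 with h2 | h2
    · exact ⟨1, Or.inl rfl, by rw [h2, mul_one]⟩
    · exact ⟨r, Or.inr rfl, h2⟩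
  have hpq1 : p * q ≠ 1 := fun e => hpq (by rw [mul_eq_one_iff_eq_inv.mp e, hρ.inv hq])
  have hqpq : q * (p * q) = p := by
    rw [hρ.comm p hp q hq, ← mul_assoc, hρ.sq q hq, one_mul]
  obtain ⟨k, hk, h3, h4⟩ := h.exists_hom hr hρ hq (mul_mem hp hq) hq1 hqr hpq1 hpqr
    (fun e => hp1 (by simpa using e.symm)) (by rw [hqpq]; exact hpr) he hf
  have hee : ∀ e : G, (e = 1 ∨ e = r) → e * e = 1 ∧ (k : G) * e * (k : G)⁻¹ = e := by
    rintro e (rfl | rfl)
    · simp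
    · exact ⟨hρ.xx, hrc k⟩
  have a1 : (k : G) * c * p * ((k : G) * c)⁻¹ = q := by
    calc (k : G) * c * p * ((k : G) * c)⁻¹ = (k : G) * ((c : G) * p * (c : G)⁻¹) * (k : G)⁻¹ := by group
      _ = ((k : G) * q * (k : G)⁻¹) * ((k : G) * e * (k : G)⁻¹) := by rw [h1']; group
      _ = q := by rw [h3, (hee e he).2, mul_assoc, (hee e he).1, mul_one]
  have a2 : (k : G) * c * q * ((k : G) * c)⁻¹ = p * q := by
    calc (k : G) * c * q * ((k : G) * c)⁻¹ = (k : G) * ((c : G) * q * (c : G)⁻¹) * (k : G)⁻¹ := by group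
      _ = ((k : G) * (p * q) * (k : G)⁻¹) * ((k : G) * f * (k : G)⁻¹) := by rw [h2']; group
      _ = p * q := by rw [h4, (hee f hf).2, mul_assoc, (hee f hf).1, mul_one]
  have hO : O3 (ρ (k * c)) := by rw [map_mul, hk, one_mul]; exact hc
  obtain ⟨m, hm, hm2⟩ := h.exists_three hr hρ hO
  have e1 : ((k * c : centralizer ({r} : Set G)) : G) = (k : G) * c := rfl
  rw [e1] at hm
  set d : G := (k : G) * c with hd
  have a3 : d * (p * q) * d⁻¹ = p := by
    calc d * (p * q) * d⁻¹ = (d * p * d⁻¹) * (d * q * d⁻¹) := by group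
      _ = p := by rw [a1, a2, hqpq]
  have d3 : ∀ t : G, d ^ 3 * t * (d ^ 3)⁻¹ = d * (d * (d * t * d⁻¹) * d⁻¹) * d⁻¹ := fun t => by
    simp only [pow_succ, pow_zero, one_mul]; group
  have c1 : d ^ 3 * p = p * d ^ 3 := by
    have := d3 p
    rw [a1, a2, a3] at this
    exact mul_inv_eq_iff_eq_mul.mp this
  have c2 : d ^ 3 * q = q * d ^ 3 := by
    have := d3 q
    rw [a2, a3, a1] at this
    exact mul_inv_eq_iff_eq_mul.mp this
  have e2 : (((k * c) ^ (3 * m + 1) : centralizer ({r} : Set G)) : G) = d ^ (3 * m + 1) := rfl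
  refine ⟨(k * c) ^ (3 * m + 1), ?_, ?_, ?_, ?_⟩
  · rw [hm2, map_mul, hk, one_mul]
  · rw [e2, ← pow_mul]; exact hm
  · rw [e2, conj_pow_three c1, a1]
  · rw [e2, conj_pow_three c2, a2]

/-- a four-subgroup of `ws V r` avoiding `r` is rotated by an element of order three of `C_G(r)` -/
theorem star (h : Ru V z) {r : G} (hr : Pt z r) {p q : G} (hp : p ∈ ws V r) (hq : q ∈ ws V r)
    (hp1 : p ≠ 1) (hpr : p ≠ r) (hq1 : q ≠ 1) (hqr : q ≠ r) (hpq : p ≠ q) (hpqr : p * q ≠ r) :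
    ∃ c : G, c * r = r * c ∧ c ^ 3 = 1 ∧ c * p * c⁻¹ = q ∧ c * q * c⁻¹ = p * q := by
  obtain ⟨ρ, hρ⟩ := h.loc_pt hr
  obtain ⟨c, hc, h1, h2⟩ := hρ.exists_cyc hp hq hp1 hpr hq1 hqr hpq hpqr
  obtain ⟨d, _, h3, h4, h5⟩ := h.star' hr hρ hp hq hp1 hpr hq1 hqr hpq hpqr hc h1 h2
  exact ⟨d, mem_centralizer_singleton_iff.mp d.2, h3, h4, h5⟩

end Ru

end Cfsg.Agent.Omega.RuShape.Base

end

section


/-!
# The Ru configuration: `pair_trans`, `act_ne`

`act_ne`: `ws V u` acts nontrivially on `ws V x/⟨x⟩` for all collinear `x ≠ u` (after helper794's `OddCyclic.GamFar`).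
-/

set_option autoImplicit false
set_option linter.dupNamespace false
set_option linter.unusedSectionVars false

namespace Cfsg.Agent.Omega.RuShape.Base

open Subgroup Cfsg Cfsg.Agent.ZN Cfsg.Agent.MinSimple.Geo Cfsg.Agent.MinSimple.OddBase
open Cfsg.Agent.OddCyclic Cfsg.Agent.OddCyclic.GamPerm Cfsg.Agent.OddCyclic.GamMod Cfsg.Agent.OddCyclic.GamLoc
open Cfsg.Agent.OddCyclic.GamBase (cc cc_surj cg_conj loc_conj ws_cj' lines_cj')
open Cfsg.Agent.ZN.Block (conj_mem_of_normalizer conj_mem_of_normalizer' le_normalizer_of_forall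
  mem_normalizer_of)

universe u

variable {G : Type u} [Group G]

namespace Ru

variable {V : Subgroup G} {z : G}

/-- one of two noncommuting groups acts nontrivially -/
theorem act_or (h : Ru V z) {p q : G} (hp : Pt z p) (hq : Pt z q) (hne : p ≠ q)
    {a b : G} (ha : a ∈ ws V p) (hb : b ∈ ws V q) (hab : a * b ≠ b * a) :
    ¬ Cg q (a * b * a⁻¹) b ∨ ¬ Cg p (b * a * b⁻¹) a := by
  by_contra hcon
  push Not at hcon
  obtain ⟨h1, h2⟩ := hcon
  rcases h1 with e | e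
  · exact hab (mul_inv_eq_iff_eq_mul.mp e)
  rcases h2 with e' | e'
  · exact hab (mul_inv_eq_iff_eq_mul.mp e').symm
  · -- `a b a⁻¹ = b q`, `b a b⁻¹ = a p`
    apply hne
    have ha' := h.inv_ws hp ha
    have hb' := h.inv_ws hq hb
    have e1 : a * b * a⁻¹ * b⁻¹ = q := by
      rw [e]
      have : b * q = q * b := h.comm hq hb (h.self_mem hq)
      rw [this, mul_inv_cancel_right]
    have e2 : b * a * b⁻¹ * a⁻¹ = p := by
      rw [e']
      have : a * p = p * a := h.comm hp ha (h.self_mem hp)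
      rw [this, mul_inv_cancel_right]
    have e3 : b * a * b⁻¹ * a⁻¹ = (a * b * a⁻¹ * b⁻¹)⁻¹ := by group
    rw [e2, e1] at e3
    rw [e3]
    exact inv_eq_of_mul_eq_one_left (h.xx hq)

/-- `G` is transitive on ordered pairs of collinear points -/
theorem pair_trans (h : Ru V z) {x u x' u' : G} (hx : Pt z x) (hu : u ∈ ws V x) (hu1 : u ≠ 1)
    (hux : u ≠ x) (hx' : Pt z x') (hu' : u' ∈ ws V x') (hu1' : u' ≠ 1) (hux' : u' ≠ x') :
    ∃ g : G, g * x * g⁻¹ = x' ∧ g * u * g⁻¹ = u' := by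
  obtain ⟨k, hk⟩ := hx.symm.trans hx'
  have hku : k * u * k⁻¹ ∈ ws V x' := by
    rw [hk, ← cj_ws]; exact conj_mem_cj hu
  obtain ⟨c, hc, hcu⟩ := h.trans_ws hx' hku hu' (conj_ne_one hu1) (fun e => hux (conj_inj (e.trans hk)))
    hu1' hux'
  refine ⟨c * k, ?_, ?_⟩
  · calc c * k * x * (c * k)⁻¹ = c * (k * x * k⁻¹) * c⁻¹ := by group
      _ = x' := by rw [← hk, hc, mul_inv_cancel_right]
  · calc c * k * u * (c * k)⁻¹ = c * (k * u * k⁻¹) * c⁻¹ := by group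
      _ = u' := hcu

/-- `ws V u` acts nontrivially on `ws V x/⟨x⟩` for all collinear `x ≠ u` -/
theorem act_ne (h : Ru V z) {x u : G} (hx : Pt z x) (hu : u ∈ ws V x) (hu1 : u ≠ 1) (hux : u ≠ x) :
    ∃ b ∈ ws V u, ∃ w ∈ ws V x, ¬ Cg x (b * w * b⁻¹) w := by
  have key : ∃ x u, Pt z x ∧ u ∈ ws V x ∧ u ≠ 1 ∧ u ≠ x ∧ ∃ b ∈ ws V u, ∃ w ∈ ws V x,
      ¬ Cg x (b * w * b⁻¹) w := by
    obtain ⟨y, hyV, hy1, hyx⟩ := h.exists_v
    obtain ⟨a, ha, b, hb, hab⟩ := h.noncomm y hyV hy1 hyx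
    have hx := Pt.refl z
    have hy := h.V_le_ws hyV
    have hyp := h.pt hx hy hy1
    have hxy : z ∈ ws V y := h.mem_symm hx hy hy1
    rcases h.act_or hx hyp hyx.symm ha hb hab with h3 | h3
    · exact ⟨y, z, hyp, hxy, h.ne_one hx, hyx.symm, a, ha, b, hb, h3⟩
    · exact ⟨z, y, hx, hy, hy1, hyx, b, hb, a, ha, h3⟩
  obtain ⟨x', u', hx', hu', hu1', hux', b, hb, w, hw, hn⟩ := key
  obtain ⟨g, rfl, rfl⟩ := h.pair_trans hx' hu' hu1' hux' hx hu hu1 hux
  refine ⟨g * b * g⁻¹, ?_, g * w * g⁻¹, ?_, ?_⟩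
  · rw [← cj_ws]; exact conj_mem_cj hb
  · rw [← cj_ws]; exact conj_mem_cj hw
  · intro hc
    apply hn
    rw [cg_conj] at hc
    convert hc using 1 <;> group

end Ru

end Cfsg.Agent.Omega.RuShape.Base

end

section


/-!
# The Ru configuration: planes (after helper794's `OddCyclic.GamPlane`)

* `cx_eq_inf`, `plane_eq`: `ws V x ⊓ ws V u` is the `F₄`-point of `ws V x/⟨x⟩` which contains `u`;
* `Pl V z E`: planes; `Pl.eq_inf`, `Pl.card`, `Pl.comm`, `Pl.exists_rot`;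
-/

set_option autoImplicit false
set_option linter.dupNamespace false
set_option linter.unusedSectionVars false

namespace Cfsg.Agent.Omega.RuShape.Base

open Subgroup Cfsg Cfsg.Agent.ZN Cfsg.Agent.MinSimple.Geo Cfsg.Agent.MinSimple.OddBase
open Cfsg.Agent.OddCyclic Cfsg.Agent.OddCyclic.GamPerm Cfsg.Agent.OddCyclic.GamMod Cfsg.Agent.OddCyclic.GamLoc
open Cfsg.Agent.OddCyclic.GamBase (cc cc_surj cg_conj loc_conj ws_cj' lines_cj')
open Cfsg.Agent.ZN.Block (conj_mem_of_normalizer conj_mem_of_normalizer' le_normalizer_of_forall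
  mem_normalizer_of)

universe u

variable {G : Type u} [Group G]

namespace Ru

variable {V : Subgroup G} {z : G} [Finite G]

/-- elements of `ws V u` centralise `x` for collinear `x`, `u` -/
theorem comm_x (h : Ru V z) {x u : G} (hx : Pt z x) (hu : u ∈ ws V x) (hu1 : u ≠ 1) {b : G}
    (hb : b ∈ ws V u) : b * x = x * b :=
  h.comm (h.pt hx hu hu1) hb (h.mem_symm hx hu hu1)

/-- elements of `ws V u` as elements of `C_G(x)` -/
def el' (h : Ru V z) {x u : G} (hx : Pt z x) (hu : u ∈ ws V x) (hu1 : u ≠ 1) {b : G}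
    (hb : b ∈ ws V u) : centralizer ({x} : Set G) :=
  ⟨b, mem_centralizer_singleton_iff.mpr (h.comm_x hx hu hu1 hb)⟩

theorem el'_sq (h : Ru V z) {x u : G} (hx : Pt z x) (hu : u ∈ ws V x) (hu1 : u ≠ 1) {b : G}
    (hb : b ∈ ws V u) (ρ : centralizer ({x} : Set G) →* S5) :
    ρ (h.el' hx hu hu1 hb) * ρ (h.el' hx hu hu1 hb) = 1 := by
  rw [← map_mul]
  have : h.el' hx hu hu1 hb * h.el' hx hu hu1 hb = 1 := Subtype.ext (h.sq_ws (h.pt hx hu hu1) hb)
  rw [this, map_one]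

/-- commutators of `ws V u` and `ws V x` -/
theorem comm_mem_inf (h : Ru V z) {x u : G} (hx : Pt z x) (hu : u ∈ ws V x) (hu1 : u ≠ 1) {b w : G}
    (hb : b ∈ ws V u) (hw : w ∈ ws V x) : b * w * b⁻¹ * w ∈ ws V x ⊓ ws V u := by
  have hup := h.pt hx hu hu1
  refine ⟨mul_mem (h.norm hx (h.comm_x hx hu hu1 hb) hw) hw, ?_⟩
  have h1 : w * b⁻¹ * w⁻¹ ∈ ws V u := h.norm hup (h.comm hx hw hu) (inv_mem hb)
  rw [h.inv_ws hx hw] at h1
  have e : b * w * b⁻¹ * w = b * (w * b⁻¹ * w) := by group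
  rw [e]; exact mul_mem hb h1

theorem cx_eq_inf (h : Ru V z) {x u : G} (hx : Pt z x) {ρ : centralizer ({x} : Set G) →* S5}
    (hρ : Loc (ws V x) x ρ) (hu : u ∈ ws V x) (hu1 : u ≠ 1) {b : G}
    (hb : b ∈ ws V u) (hne : ρ (h.el' hx hu hu1 hb) ≠ 1) :
    hρ.cx (h.el' hx hu hu1 hb) = ws V x ⊓ ws V u := by
  have hup := h.pt hx hu hu1
  have hxu := h.mem_symm hx hu hu1
  set c := h.el' hx hu hu1 hb with hc
  have hcb : (c : G) = b := rfl
  have hcc : ρ c * ρ c = 1 := h.el'_sq hx hu hu1 hb ρ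
  apply le_antisymm
  · intro w hw
    obtain ⟨v, hv, hwv⟩ := hρ.exists_comm hcc hne hw
    have h1 := h.comm_mem_inf hx hu hu1 hb hv
    rw [hcb] at hwv
    rcases hwv with e | e
    · rw [e]; exact h1
    · rw [e]; exact mul_mem h1 ⟨hρ.x_mem, hxu⟩
  · rintro w ⟨hw, hw'⟩
    rw [hρ.mem_cx]
    refine ⟨hw, Or.inl ?_⟩
    rw [hcb, h.comm hup hb hw', mul_inv_cancel_right]

/-- lifts fixing `u` -/
theorem fix_lift (h : Ru V z) {x u : G} (hx : Pt z x) {ρ : centralizer ({x} : Set G) →* S5}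
    (hρ : Loc (ws V x) x ρ) (hu : u ∈ ws V x) (hu1 : u ≠ 1) (hux : u ≠ x)
    {c : centralizer ({x} : Set G)} (hc : Cg x ((c : G) * u * (c : G)⁻¹) u) :
    ∃ d, ρ d = ρ c ∧ (d : G) * u = u * d := by
  rcases hc with e | e
  · exact ⟨c, rfl, mul_inv_eq_iff_eq_mul.mp e⟩
  · obtain ⟨k, hk, hk2⟩ := h.exists_neg hx hρ hu hu1 hux
    refine ⟨k * c, by rw [map_mul, hk, one_mul], ?_⟩
    have hxk : (k : G) * x * (k : G)⁻¹ = x := by
      rw [mem_centralizer_singleton_iff.mp k.2, mul_inv_cancel_right]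
    apply mul_inv_eq_iff_eq_mul.mp
    change (k : G) * c * u * ((k : G) * c)⁻¹ = u
    calc (k : G) * c * u * ((k : G) * c)⁻¹ = (k : G) * ((c : G) * u * (c : G)⁻¹) * (k : G)⁻¹ := by group
      _ = ((k : G) * u * (k : G)⁻¹) * ((k : G) * x * (k : G)⁻¹) := by rw [e]; group
      _ = u := by rw [hk2, hxk, mul_assoc, hρ.xx, mul_one]

theorem exists_act (h : Ru V z) {x u : G} (hx : Pt z x) {ρ : centralizer ({x} : Set G) →* S5}
    (hρ : Loc (ws V x) x ρ) (hu : u ∈ ws V x) (hu1 : u ≠ 1) (hux : u ≠ x) :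
    ∃ b, ∃ hb : b ∈ ws V u, ρ (h.el' hx hu hu1 hb) ≠ 1 := by
  obtain ⟨b, hb, w, hw, hn⟩ := h.act_ne hx hu hu1 hux
  exact ⟨b, hb, fun e => hn ((hρ.ker _).mp e w hw)⟩

theorem plane_eq (h : Ru V z) {x u : G} (hx : Pt z x) {ρ : centralizer ({x} : Set G) →* S5}
    (hρ : Loc (ws V x) x ρ) (hu1 : u ≠ 1) (hux : u ≠ x) {i : Fin 5} (hi : u ∈ hρ.pg i) :
    ws V x ⊓ ws V u = hρ.pg i := by
  have hu : u ∈ ws V x := hρ.pg_le i hi
  have hup := h.pt hx hu hu1
  have hxu := h.mem_symm hx hu hu1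
  obtain ⟨b, hb, hne⟩ := h.exists_act hx hρ hu hu1 hux
  by_cases hK : K4 i (ρ (h.el' hx hu hu1 hb))
  · rw [← h.cx_eq_inf hx hρ hu hu1 hb hne, hρ.cx_eq_pg hK hne]
  · have hbu : Cg x (((h.el' hx hu hu1 hb : centralizer ({x} : Set G)) : G) * u *
        ((h.el' hx hu hu1 hb : centralizer ({x} : Set G)) : G)⁻¹) u := by
      left
      change b * u * b⁻¹ = u
      rw [h.comm hup hb (h.self_mem hup), mul_inv_cancel_right]
    have hfix := hρ.idx_fix hi hu1 hux hbu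
    obtain ⟨g, hg, hg2, hg3⟩ := exists_comm_k4 i _ hfix (h.el'_sq hx hu hu1 hb ρ) hK
    obtain ⟨d, rfl⟩ := hρ.even g hg.2.1
    obtain ⟨d', hd', hd'u⟩ := h.fix_lift hx hρ hu hu1 hux (hρ.fix_of_k4 hg hi)
    have hb' : b * ((d' : G) * b⁻¹ * (d' : G)⁻¹) ∈ ws V u := mul_mem hb (h.norm hup hd'u (inv_mem hb))
    have e : h.el' hx hu hu1 hb' = h.el' hx hu hu1 hb * d' * (h.el' hx hu hu1 hb)⁻¹ * d'⁻¹ := by
      apply Subtype.ext
      change b * ((d' : G) * b⁻¹ * (d' : G)⁻¹) = b * d' * b⁻¹ * (d' : G)⁻¹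
      group
    have e2 : ρ (h.el' hx hu hu1 hb') = ρ (h.el' hx hu hu1 hb) * ρ d * (ρ (h.el' hx hu hu1 hb))⁻¹ * (ρ d)⁻¹ := by
      rw [e, map_mul, map_mul, map_mul, map_inv, map_inv, hd']
    have hne' : ρ (h.el' hx hu hu1 hb') ≠ 1 := by rw [e2]; exact hg3
    rw [← h.cx_eq_inf hx hρ hu hu1 hb' hne', hρ.cx_eq_pg (by rw [e2]; exact hg2) hne']

theorem plane_same (h : Ru V z) {x u u' : G} (hx : Pt z x) (hu : u ∈ ws V x) (hu1 : u ≠ 1)
    (hux : u ≠ x) (hu' : u' ∈ ws V x ⊓ ws V u) (hu1' : u' ≠ 1) (hux' : u' ≠ x) :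
    ws V x ⊓ ws V u' = ws V x ⊓ ws V u := by
  obtain ⟨ρ, hρ⟩ := h.loc_pt hx
  obtain ⟨i, hi⟩ := hρ.exists_pg hu
  have h1 := h.plane_eq hx hρ hu1 hux hi
  rw [h1] at hu' ⊢
  exact h.plane_eq hx hρ hu1' hux' hu'

end Ru

/-- planes -/
def Pl (V : Subgroup G) (z : G) (E : Subgroup G) : Prop :=
  ∃ x u, Pt z x ∧ u ∈ ws V x ∧ u ≠ 1 ∧ u ≠ x ∧ E = ws V x ⊓ ws V u

namespace Pl

variable {V : Subgroup G} {z : G} [Finite G] {E : Subgroup G}

theorem conj (hE : Pl V z E) (g : G) : Pl V z (cj g E) := by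
  obtain ⟨x, u, hx, hu, hu1, hux, rfl⟩ := hE
  refine ⟨g * x * g⁻¹, g * u * g⁻¹, hx.conj g, ?_, conj_ne_one hu1, fun e => hux (conj_inj e), ?_⟩
  · rw [← cj_ws]; exact conj_mem_cj hu
  · rw [cj_inf, cj_ws, cj_ws]

theorem pt (hE : Pl V z E) (h : Ru V z) {a : G} (ha : a ∈ E) (ha1 : a ≠ 1) : Pt z a := by
  obtain ⟨x, u, hx, hu, hu1, hux, rfl⟩ := hE
  exact h.pt hx ha.1 ha1

theorem eq_inf (hE : Pl V z E) (h : Ru V z) {a b : G} (ha : a ∈ E) (ha1 : a ≠ 1) (hb : b ∈ E)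
    (hb1 : b ≠ 1) (hab : a ≠ b) : E = ws V a ⊓ ws V b := by
  obtain ⟨x, u, hx, hu, hu1, hux, rfl⟩ := hE
  by_cases hax : a = x
  · subst hax
    exact (h.plane_same hx hu hu1 hux hb hb1 hab.symm).symm
  by_cases hbx : b = x
  · subst hbx
    rw [inf_comm (ws V a) (ws V b)]
    exact (h.plane_same hx hu hu1 hux ha ha1 hax).symm
  · have h1 := h.plane_same hx hu hu1 hux ha ha1 hax
    rw [← h1, inf_comm (ws V x) (ws V a)] at hb ⊢
    have hap := h.pt hx ha.1 ha1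
    have hxa := h.mem_symm hx ha.1 ha1
    exact (h.plane_same hap hxa (h.ne_one hx) (fun e => hax e.symm) hb hb1 (fun e => hab e.symm)).symm

theorem le_ws (hE : Pl V z E) (h : Ru V z) {a : G} (ha : a ∈ E) (ha1 : a ≠ 1) : E ≤ ws V a := by
  obtain ⟨x, u, hx, hu, hu1, hux, hEE⟩ := hE
  have hE : Pl V z E := ⟨x, u, hx, hu, hu1, hux, hEE⟩
  by_cases hax : a = x
  · rw [hEE, hax]; exact inf_le_left
  · have hxE : x ∈ E := by rw [hEE]; exact ⟨h.self_mem hx, h.mem_symm hx hu hu1⟩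
    rw [hE.eq_inf h ha ha1 hxE (h.ne_one hx) hax]
    exact inf_le_left

theorem comm (hE : Pl V z E) (h : Ru V z) {a b : G} (ha : a ∈ E) (hb : b ∈ E) : a * b = b * a := by
  obtain ⟨x, u, hx, hu, hu1, hux, rfl⟩ := hE
  exact h.comm hx ha.1 hb.1

theorem sq (hE : Pl V z E) (h : Ru V z) {a : G} (ha : a ∈ E) : a * a = 1 := by
  obtain ⟨x, u, hx, hu, hu1, hux, rfl⟩ := hE
  exact h.sq_ws hx ha.1

theorem inv (hE : Pl V z E) (h : Ru V z) {a : G} (ha : a ∈ E) : a⁻¹ = a :=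
  inv_eq_of_mul_eq_one_left (hE.sq h ha)

theorem card (hE : Pl V z E) (h : Ru V z) : Nat.card E = 8 := by
  obtain ⟨x, u, hx, hu, hu1, hux, rfl⟩ := hE
  obtain ⟨ρ, hρ⟩ := h.loc_pt hx
  obtain ⟨i, hi⟩ := hρ.exists_pg hu
  rw [h.plane_eq hx hρ hu1 hux hi, hρ.card_pg]

/-- the plane as an `F₄`-point of one of its points -/
theorem exists_pg (hE : Pl V z E) (h : Ru V z) {a : G} (ha : a ∈ E) (ha1 : a ≠ 1)
    {ρ : centralizer ({a} : Set G) →* S5} (hρ : Loc (ws V a) a ρ) : ∃ i, E = hρ.pg i := by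
  have : ∃ b ∈ E, b ≠ 1 ∧ b ≠ a := by
    by_contra hcon
    push Not at hcon
    have h1 : (E : Set G) ⊆ {1, a} := by
      intro t ht
      by_cases ht1 : t = 1
      · exact Or.inl ht1
      · exact Or.inr (hcon t ht ht1)
    have h2 := Set.ncard_le_ncard h1 (Set.toFinite _)
    have h3 : (E : Set G).ncard = 8 := by rw [← hE.card h]; rfl
    rw [h3, Set.ncard_pair ha1.symm] at h2
    omega
  obtain ⟨b, hb, hb1, hba⟩ := this
  have hbW := hE.le_ws h ha ha1 hb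
  obtain ⟨i, hi⟩ := hρ.exists_pg hbW
  exact ⟨i, by rw [← h.plane_eq (hE.pt h ha ha1) hρ hb1 hba hi]
               exact hE.eq_inf h ha ha1 hb hb1 hba.symm⟩

/-- `[ws V a, C_G(E)] ≤ E` -/
theorem comm_mem (hE : Pl V z E) (h : Ru V z) {a : G} (ha : a ∈ E) (ha1 : a ≠ 1) {c : G}
    (hc : ∀ e ∈ E, c * e = e * c) {w : G} (hw : w ∈ ws V a) : c * w * c⁻¹ * w ∈ E := by
  have hap := hE.pt h ha ha1
  obtain ⟨ρ, hρ⟩ := h.loc_pt hap
  obtain ⟨i, rfl⟩ := hE.exists_pg h ha ha1 hρ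
  have hca : c ∈ centralizer ({a} : Set G) := mem_centralizer_singleton_iff.mpr (hc a ha)
  have hK : K4 i (ρ ⟨c, hca⟩) := hρ.k4_of_pg fun w hw => Or.inl (by
    change c * w * c⁻¹ = w
    rw [hc w hw, mul_inv_cancel_right])
  exact hρ.quot_of_k4 hK hw

/-- elements of `ws V b`, `b ∈ E`, centralise `E` -/
theorem ws_comm (hE : Pl V z E) (h : Ru V z) {b : G} (hb : b ∈ E) (hb1 : b ≠ 1) {w : G}
    (hw : w ∈ ws V b) {e : G} (he : e ∈ E) : w * e = e * w :=
  h.comm (hE.pt h hb hb1) hw (hE.le_ws h hb hb1 he)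

/-- an element which rotates a line of `E` normalises `E` -/
theorem cj_eq (hE : Pl V z E) (h : Ru V z) {a b c : G} (ha : a ∈ E) (ha1 : a ≠ 1) (hb : b ∈ E)
    (hb1 : b ≠ 1) (hab : a ≠ b) (ha' : c * a * c⁻¹ ∈ E) (hb' : c * b * c⁻¹ ∈ E) : cj c E = E := by
  conv_lhs => rw [hE.eq_inf h ha ha1 hb hb1 hab]
  rw [cj_inf, cj_ws, cj_ws]
  exact (hE.eq_inf h ha' (conj_ne_one ha1) hb' (conj_ne_one hb1) (fun e => hab (conj_inj e))).symm

end Pl

namespace Ru

variable {V : Subgroup G} {z : G} [Finite G]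

theorem pl (_ : Ru V z) {x u : G} (hx : Pt z x) (hu : u ∈ ws V x) (hu1 : u ≠ 1) (hux : u ≠ x) :
    Pl V z (ws V x ⊓ ws V u) := ⟨x, u, hx, hu, hu1, hux, rfl⟩

end Ru

end Cfsg.Agent.Omega.RuShape.Base

end

section


/-!
# The Ru configuration: the subgroup `L_x = ⟨W_y : y ∈ W_x - x⟩`

helper881's text #12858, (2.2): `ll V x` is normal in `C_G(x)`, covers `A₅`, contains `W_x` and all elements of order
three of `C_G(x)`, and centralises `C_G(W_x)/W_x` (`ll_comm`).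
-/

set_option autoImplicit false
set_option linter.dupNamespace false
set_option linter.unusedSectionVars false

namespace Cfsg.Agent.Omega.RuShape.Base

open Subgroup Cfsg Cfsg.Agent.ZN Cfsg.Agent.MinSimple.Geo Cfsg.Agent.MinSimple.OddBase
open Cfsg.Agent.OddCyclic Cfsg.Agent.OddCyclic.GamPerm Cfsg.Agent.OddCyclic.GamMod Cfsg.Agent.OddCyclic.GamLoc
open Cfsg.Agent.OddCyclic.GamBase (cc cc_surj cg_conj loc_conj ws_cj' lines_cj')
open Cfsg.Agent.ZN.Block (conj_mem_of_normalizer conj_mem_of_normalizer' le_normalizer_of_forall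
  mem_normalizer_of)

universe u

variable {G : Type u} [Group G]

theorem s5_conj_o3 : ∃ g₀ : S5, O3 g₀ ∧ ∀ g : S5, O3 g → ∃ s : S5, Equiv.Perm.sign s = 1 ∧ s * g₀ * s⁻¹ = g := by
  refine ⟨c[0, 1, 2], by decide, ?_⟩
  decide +kernel

theorem s5_o3_conj {g h : S5} (hg : O3 g) (hh : O3 h) : ∃ s : S5, Equiv.Perm.sign s = 1 ∧ s * g * s⁻¹ = h := by
  obtain ⟨g₀, _, h0⟩ := s5_conj_o3
  obtain ⟨s, hs, rfl⟩ := h0 g hg
  obtain ⟨t, ht, rfl⟩ := h0 h hh
  refine ⟨t * s⁻¹, ?_, by group⟩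
  rw [map_mul, map_inv, hs, ht]; rfl

/-- `L_x = ⟨W_y : y ∈ W_x - x⟩` -/
def ll (V : Subgroup G) (x : G) : Subgroup G :=
  closure {g | ∃ y ∈ ws V x, y ≠ 1 ∧ y ≠ x ∧ g ∈ ws V y}

theorem cj_ll_le (V : Subgroup G) (g x : G) : cj g (ll V x) ≤ ll V (g * x * g⁻¹) := by
  rw [cj_le_iff]
  unfold ll
  rw [closure_le]
  rintro a ⟨y, hy, hy1, hyx, ha⟩
  rw [SetLike.mem_coe, mem_cj, inv_inv]
  apply Subgroup.subset_closure
  refine ⟨g * y * g⁻¹, ?_, conj_ne_one hy1, fun e => hyx (conj_inj e), ?_⟩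
  · rw [← cj_ws]; exact conj_mem_cj hy
  · rw [← cj_ws]; exact conj_mem_cj ha

theorem cj_ll (V : Subgroup G) (g x : G) : cj g (ll V x) = ll V (g * x * g⁻¹) := by
  apply le_antisymm (cj_ll_le V g x)
  have h1 := cj_ll_le V g⁻¹ (g * x * g⁻¹)
  have e : g⁻¹ * (g * x * g⁻¹) * g⁻¹⁻¹ = x := by group
  rw [e] at h1
  have h2 := cj_mono (g := g) h1
  rwa [cj_cj_inv] at h2

theorem ws_le_ll' {V : Subgroup G} {x y : G} (hy : y ∈ ws V x) (hy1 : y ≠ 1) (hyx : y ≠ x) :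
    ws V y ≤ ll V x := fun _ hg => Subgroup.subset_closure ⟨y, hy, hy1, hyx, hg⟩

namespace Ru

variable {V : Subgroup G} {z : G} [Finite G]

theorem ll_le (h : Ru V z) {x : G} (hx : Pt z x) : ll V x ≤ centralizer ({x} : Set G) := by
  unfold ll
  rw [closure_le]
  rintro a ⟨y, hy, hy1, _, ha⟩
  exact mem_centralizer_singleton_iff.mpr (h.comm_x hx hy hy1 ha)

theorem ll_conj (_ : Ru V z) {x c l : G} (hc : c * x = x * c) (hl : l ∈ ll V x) :
    c * l * c⁻¹ ∈ ll V x := by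
  have := conj_mem_cj (g := c) hl
  rwa [cj_ll, hc, mul_inv_cancel_right] at this

theorem ws_le_ll (h : Ru V z) {x : G} (hx : Pt z x) : ws V x ≤ ll V x := by
  have h1 : ∀ y ∈ ws V x, y ≠ 1 → y ≠ x → y ∈ ll V x := fun y hy hy1 hyx =>
    ws_le_ll' hy hy1 hyx (h.self_mem (h.pt hx hy hy1))
  intro y hy
  by_cases hy1 : y = 1
  · rw [hy1]; exact one_mem _
  by_cases hyx : y = x
  · obtain ⟨w, hw, hw1, hwx⟩ := h.exists_ws hx
    have hxx := h.xx hx
    have hwx1 : w * x ≠ 1 := fun e => hwx (by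
      rw [mul_eq_one_iff_eq_inv.mp e]; exact inv_eq_of_mul_eq_one_left hxx)
    have hwx2 : w * x ≠ x := fun e => hw1 (by simpa using e)
    have h2 : y = w * (w * x) := by rw [← mul_assoc, h.sq_ws hx hw, one_mul, hyx]
    rw [h2]
    exact mul_mem (h1 w hw hw1 hwx) (h1 _ (mul_mem hw (h.self_mem hx)) hwx1 hwx2)
  · exact h1 y hy hy1 hyx

/-- (2.2): `L_x` centralises `C_G(W_x)/W_x` -/
theorem ll_comm (h : Ru V z) {x : G} (hx : Pt z x) {l : G} (hl : l ∈ ll V x) {c : G}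
    (hc : ∀ w ∈ ws V x, c * w = w * c) : c * l * c⁻¹ * l⁻¹ ∈ ws V x := by
  obtain ⟨ρ, hρ⟩ := h.loc_pt hx
  have h1 : ∀ l ∈ ll V x, ∀ c : G, (∀ w ∈ ws V x, c * w = w * c) → c * l * c⁻¹ * l⁻¹ ∈ ws V x := by
    intro l hl
    unfold ll at hl
    induction hl using Subgroup.closure_induction with
    | mem b hb =>
      obtain ⟨u, hu, hu1, hux, hb⟩ := hb
      intro c hc
      have hup := h.pt hx hu hu1
      have h1 := (h.pl hx hu hu1 hux).comm_mem h (a := u) ⟨hu, h.self_mem hup⟩ hu1 (c := c)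
        (fun e he => hc e he.1) hb
      rw [h.inv_ws hup hb]
      exact h1.1
    | one => intro c _; simp [one_mem]
    | mul a b ha hb iha ihb =>
      intro c hc
      have ha' : a * x = x * a := mem_centralizer_singleton_iff.mp (h.ll_le hx ha)
      have e : c * (a * b) * c⁻¹ * (a * b)⁻¹ = (c * a * c⁻¹ * a⁻¹) * (a * (c * b * c⁻¹ * b⁻¹) * a⁻¹) := by
        group
      rw [e]
      exact mul_mem (iha c hc) (h.norm hx ha' (ihb c hc))
    | inv a ha iha =>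
      intro c hc
      have ha' : a * x = x * a := mem_centralizer_singleton_iff.mp (h.ll_le hx ha)
      have ha2 : a⁻¹ * x = x * a⁻¹ := by
        have := mem_centralizer_singleton_iff.mp (inv_mem (h.ll_le hx ha))
        exact this
      have e : c * a⁻¹ * c⁻¹ * a⁻¹⁻¹ = a⁻¹ * (c * a * c⁻¹ * a⁻¹)⁻¹ * a⁻¹⁻¹ *
          (a⁻¹ * (c * a * c⁻¹ * a⁻¹) * a⁻¹⁻¹ * (c * a⁻¹ * c⁻¹ * a⁻¹⁻¹)) := by group
      have e2 : c * a⁻¹ * c⁻¹ * a⁻¹⁻¹ = a⁻¹ * (a * (c * a⁻¹ * c⁻¹)) * a⁻¹⁻¹ := by group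
      have e3 : a * (c * a⁻¹ * c⁻¹) = (c * a * c⁻¹ * a⁻¹)⁻¹ := by group
      rw [e2, e3]
      exact h.norm hx ha2 (inv_mem (iha c hc))
  exact h1 l hl c hc

/-- an element of order three of `C_G(x)` in `L_x` -/
theorem exists_o3_ll (h : Ru V z) {x : G} (hx : Pt z x) {ρ : centralizer ({x} : Set G) →* S5}
    (hρ : Loc (ws V x) x ρ) : ∃ q : centralizer ({x} : Set G), (q : G) ∈ ll V x ∧ O3 (ρ q) := by
  obtain ⟨u, hu, hu1, hux⟩ := h.exists_ws hx
  obtain ⟨b, hb, hne⟩ := h.exists_act hx hρ hu hu1 hux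
  obtain ⟨g, hg, h3⟩ := exists_conj_o3 _ (h.el'_sq hx hu hu1 hb ρ) hne
  obtain ⟨d, rfl⟩ := hρ.even g hg
  have hbL : b ∈ ll V x := ws_le_ll' hu hu1 hux hb
  refine ⟨h.el' hx hu hu1 hb * (d * h.el' hx hu hu1 hb * d⁻¹), ?_, ?_⟩
  · change b * ((d : G) * b * (d : G)⁻¹) ∈ ll V x
    exact mul_mem hbL (h.ll_conj (mem_centralizer_singleton_iff.mp d.2) hbL)
  · rw [map_mul, map_mul, map_mul, map_inv]; exact h3

/-- all elements of order three of `C_G(x)` are in `L_x` -/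
theorem three_mem_ll (h : Ru V z) {x : G} (hx : Pt z x) {y : G} (hy : y * x = x * y) (hy3 : y ^ 3 = 1) :
    y ∈ ll V x := by
  obtain ⟨ρ, hρ⟩ := h.loc_pt hx
  have hyC : y ∈ centralizer ({x} : Set G) := mem_centralizer_singleton_iff.mpr hy
  by_cases h1 : ρ ⟨y, hyC⟩ = 1
  · have := h.ker_three hx hρ h1 hy3
    change y = 1 at this
    rw [this]; exact one_mem _
  have hO : O3 (ρ ⟨y, hyC⟩) := by
    refine ⟨?_, h1⟩
    rw [← map_mul, ← map_mul]
    have : (⟨y, hyC⟩ * ⟨y, hyC⟩ * ⟨y, hyC⟩ : centralizer ({x} : Set G)) = 1 := by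
      apply Subtype.ext
      change y * y * y = 1
      rw [← hy3]; simp only [pow_succ, pow_zero, one_mul]
    rw [this, map_one]
  obtain ⟨q, hq, hqO⟩ := h.exists_o3_ll hx hρ
  obtain ⟨s, hs, hsq⟩ := s5_o3_conj hqO hO
  obtain ⟨d, rfl⟩ := hρ.even s hs
  set l : centralizer ({x} : Set G) := d * q * d⁻¹ with hl
  have hlL : (l : G) ∈ ll V x := h.ll_conj (mem_centralizer_singleton_iff.mp d.2) hq
  set k : centralizer ({x} : Set G) := l⁻¹ * ⟨y, hyC⟩ with hk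
  have hk1 : ρ k = 1 := by
    rw [hk, map_mul, map_inv, hl, map_mul, map_mul, map_inv, hsq, inv_mul_cancel]
  let L : Subgroup (centralizer ({x} : Set G)) := (ll V x).subgroupOf (centralizer ({x} : Set G))
  have hLn : L.Normal := by
    constructor
    intro n hn g
    rw [mem_subgroupOf] at hn ⊢
    exact h.ll_conj (mem_centralizer_singleton_iff.mp g.2) hn
  obtain ⟨n, hn⟩ := h.isPGroup_ker hx hρ ⟨k, hk1⟩
  have hn' : k ^ 2 ^ n = 1 := congrArg Subtype.val hn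
  have h2 : QuotientGroup.mk' L ⟨y, hyC⟩ = QuotientGroup.mk' L k := by
    have e : (⟨y, hyC⟩ : centralizer ({x} : Set G)) = l * k := by rw [hk]; group
    have e2 : QuotientGroup.mk' L l = 1 := by
      rw [← MonoidHom.mem_ker, QuotientGroup.ker_mk', mem_subgroupOf]; exact hlL
    rw [e, map_mul, e2, one_mul]
  have h3 : (QuotientGroup.mk' L ⟨y, hyC⟩) ^ 2 ^ n = 1 := by rw [h2, ← map_pow, hn', map_one]
  have h4 : (QuotientGroup.mk' L ⟨y, hyC⟩) ^ 3 = 1 := by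
    rw [← map_pow]
    have : (⟨y, hyC⟩ : centralizer ({x} : Set G)) ^ 3 = 1 := Subtype.ext hy3
    rw [this, map_one]
  have h5 : orderOf (QuotientGroup.mk' L ⟨y, hyC⟩) ∣ Nat.gcd (2 ^ n) 3 :=
    Nat.dvd_gcd (orderOf_dvd_of_pow_eq_one h3) (orderOf_dvd_of_pow_eq_one h4)
  have h6 : Nat.gcd (2 ^ n) 3 = 1 := Nat.Coprime.pow_left n (by norm_num)
  rw [h6, Nat.dvd_one, orderOf_eq_one_iff, ← MonoidHom.mem_ker, QuotientGroup.ker_mk', mem_subgroupOf] at h5
  exact h5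

/-- `[C_G(ws V x), y] ≤ ws V x` for `y ∈ C_G(x)` of order three -/
theorem cent_three (h : Ru V z) {x : G} (hx : Pt z x) {c y : G} (hc : ∀ w ∈ ws V x, c * w = w * c)
    (hy : y * x = x * y) (hy3 : y ^ 3 = 1) : c * y * c⁻¹ * y⁻¹ ∈ ws V x :=
  h.ll_comm hx (h.three_mem_ll hx hy hy3) hc

end Ru

end Cfsg.Agent.Omega.RuShape.Base

end

section


/-!
# The Ru configuration: the subgroups `bb V u v = ws V u ⊓ kq V v` of index two in `ws V u`

For points `u ≠ v` of a plane `E`: `card_bb`, `bb_same`, `bb_inf`, `bb_comm`, `bb_act` (after helper794's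
`OddCyclic.GamFlag`).
-/

set_option autoImplicit false
set_option linter.dupNamespace false
set_option linter.unusedSectionVars false

namespace Cfsg.Agent.Omega.RuShape.Base

open Subgroup Cfsg Cfsg.Agent.ZN Cfsg.Agent.MinSimple.Geo Cfsg.Agent.MinSimple.OddBase
open Cfsg.Agent.OddCyclic Cfsg.Agent.OddCyclic.GamPerm Cfsg.Agent.OddCyclic.GamMod Cfsg.Agent.OddCyclic.GamLoc
open Cfsg.Agent.OddCyclic.GamBase (cc cc_surj cg_conj loc_conj ws_cj' lines_cj')
open Cfsg.Agent.ZN.Block (conj_mem_of_normalizer conj_mem_of_normalizer' le_normalizer_of_forall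
  mem_normalizer_of)

universe u

variable {G : Type u} [Group G]

theorem mul_mem_of_two {B W : Subgroup G} (hle : B ≤ W) (hcard : Nat.card W = 2 * Nat.card B)
    (hpos : 0 < Nat.card B) {a b : G}
    (ha : a ∈ W) (hb : b ∈ W) (ha' : a ∉ B) (hb' : b ∉ B) : a * b ∈ B := by
  have hidx : (B.subgroupOf W).index = 2 := by
    have h1 := Subgroup.card_mul_index (B.subgroupOf W)
    have h2 : Nat.card (B.subgroupOf W) = Nat.card B := Nat.card_congr (subgroupOfEquivOfLe hle).toEquiv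
    rw [h2, hcard, mul_comm 2] at h1
    exact Nat.eq_of_mul_eq_mul_left hpos h1
  have h3 := (Subgroup.mul_mem_iff_of_index_two hidx (a := ⟨a, ha⟩) (b := ⟨b, hb⟩))
  have h4 : (⟨a, ha⟩ * ⟨b, hb⟩ : W) ∈ B.subgroupOf W := by
    rw [h3, mem_subgroupOf, mem_subgroupOf]
    exact ⟨fun h => absurd h ha', fun h => absurd h hb'⟩
  exact mem_subgroupOf.mp h4

theorem kq_le (V : Subgroup G) (x : G) : kq V x ≤ centralizer ({x} : Set G) := fun _ hc => hc.1

theorem mem_kq_iff {V : Subgroup G} {x : G} {ρ : centralizer ({x} : Set G) →* S5}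
    (hρ : Loc (ws V x) x ρ) {c : centralizer ({x} : Set G)} : (c : G) ∈ kq V x ↔ ρ c = 1 := by
  have key : ∀ (c : centralizer ({x} : Set G)) (w : G), w ∈ ws V x →
      ((c : G) * w * (c : G)⁻¹ * w⁻¹ ∈ zpowers x ↔ Cg x ((c : G) * w * (c : G)⁻¹) w) := by
    intro c w hw
    rw [Cfsg.Agent.MinSimple.Sec.mem_zpowers hρ.xx]
    unfold Cg
    have hxw : x * w = w * x := hρ.comm x hρ.x_mem w hw
    constructor
    · rintro (e | e)
      · left; exact mul_inv_eq_one.mp e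
      · right; rw [← hxw]; exact mul_inv_eq_iff_eq_mul.mp e
    · rintro (e | e)
      · left; rw [e, mul_inv_cancel]
      · right; rw [e, ← hxw, mul_inv_cancel_right]
  rw [mem_kq', hρ.ker]
  constructor
  · rintro ⟨_, h1, _⟩ w hw
    exact (key c w hw).mp (h1 w hw)
  · intro h1
    refine ⟨c.2, fun w hw => (key c w hw).mpr (h1 w hw), fun w hw => ?_⟩
    have h2 : ∀ w ∈ ws V x, Cg x (((c⁻¹ : centralizer ({x} : Set G)) : G) * w *
        ((c⁻¹ : centralizer ({x} : Set G)) : G)⁻¹) w := by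
      rw [← hρ.ker, map_inv, inv_eq_one]
      exact (hρ.ker c).mpr h1
    have h3 := (key c⁻¹ w hw).mpr (h2 w hw)
    have e : ((c⁻¹ : centralizer ({x} : Set G)) : G) = (c : G)⁻¹ := rfl
    rw [e, inv_inv] at h3
    exact h3

/-- `ws V u ⊓ kq V v` -/
def bb (V : Subgroup G) (u v : G) : Subgroup G := ws V u ⊓ kq V v

theorem cj_bb (V : Subgroup G) (g u v : G) : cj g (bb V u v) = bb V (g * u * g⁻¹) (g * v * g⁻¹) := by
  unfold bb
  rw [cj_inf, cj_ws, cj_kq]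

theorem bb_le (V : Subgroup G) (u v : G) : bb V u v ≤ ws V u := inf_le_left

theorem mem_bb {V : Subgroup G} {u v g : G} : g ∈ bb V u v ↔ g ∈ ws V u ∧ g ∈ kq V v := Iff.rfl

namespace Ru

variable {V : Subgroup G} {z : G} [Finite G]

/-- the action of `kq V x` -/
theorem kq_act (h : Ru V z) {x : G} (hx : Pt z x) {c w : G} (hc : c ∈ kq V x) (hw : w ∈ ws V x) :
    c * w * c⁻¹ = w ∨ c * w * c⁻¹ = w * x := by
  obtain ⟨ρ, hρ⟩ := h.loc_pt hx
  have h1 := (mem_kq_iff hρ (c := ⟨c, kq_le V x hc⟩)).mp hc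
  exact (hρ.ker _).mp h1 w hw

theorem ws_le_kq (h : Ru V z) {x : G} (hx : Pt z x) : ws V x ≤ kq V x := by
  intro w hw
  obtain ⟨ρ, hρ⟩ := h.loc_pt hx
  refine (mem_kq_iff hρ (c := ⟨w, hρ.le_centralizer hw⟩)).mpr ?_
  rw [hρ.ker]
  intro v hv
  left
  change w * v * w⁻¹ = v
  rw [hρ.comm w hw v hv, mul_inv_cancel_right]

theorem kq_conj (_ : Ru V z) {x : G} (_ : Pt z x) {c k : G} (hc : c * x = x * c) (hk : k ∈ kq V x) :
    c * k * c⁻¹ ∈ kq V x := by
  have := conj_mem_cj (g := c) hk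
  rwa [cj_kq, hc, mul_inv_cancel_right] at this

end Ru

/-- three independent elements of a plane -/
structure Ind (E : Subgroup G) (u v w : G) : Prop where
  u_mem : u ∈ E
  v_mem : v ∈ E
  w_mem : w ∈ E
  u_ne : u ≠ 1
  v_ne : v ≠ 1
  w_ne : w ≠ 1
  uv : u ≠ v
  uw : u ≠ w
  vw : v ≠ w
  uvw : u * v ≠ w

namespace Pl

variable {V : Subgroup G} {z : G} [Finite G] {E : Subgroup G}

theorem eq_mul (hE : Pl V z E) (h : Ru V z) {a b c : G} (ha : a ∈ E) (e : a * b = c) :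
    b = a * c := by
  rw [← e, ← mul_assoc, hE.sq h ha, one_mul]

/-- permutations of independent triples -/
theorem ind_swap (hE : Pl V z E) (h : Ru V z) {u v w : G} (hi : Ind E u v w) : Ind E v u w :=
  ⟨hi.v_mem, hi.u_mem, hi.w_mem, hi.v_ne, hi.u_ne, hi.w_ne, hi.uv.symm, hi.vw, hi.uw, by
    rw [hE.comm h hi.v_mem hi.u_mem]; exact hi.uvw⟩

theorem ind_rot (hE : Pl V z E) (h : Ru V z) {u v w : G} (hi : Ind E u v w) : Ind E v w u :=
  ⟨hi.v_mem, hi.w_mem, hi.u_mem, hi.v_ne, hi.w_ne, hi.u_ne, hi.vw, hi.uv.symm, hi.uw.symm, fun e => by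
    apply hi.uvw
    have := hE.eq_mul h hi.v_mem e
    rw [this, hE.comm h hi.u_mem hi.v_mem]⟩

theorem ind_mul (hE : Pl V z E) (h : Ru V z) {u v w : G} (hi : Ind E u v w) : Ind E u v (u * w) := by
  refine ⟨hi.u_mem, hi.v_mem, mul_mem hi.u_mem hi.w_mem, hi.u_ne, hi.v_ne, ?_, hi.uv, ?_, ?_, ?_⟩
  · intro e
    apply hi.uw
    have := hE.eq_mul h hi.u_mem e
    rw [this, mul_one]
  · intro e; exact hi.w_ne (by simpa using e.symm)
  · intro e
    apply hi.uvw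
    rw [e, ← mul_assoc, hE.sq h hi.u_mem, one_mul]
  · intro e
    exact hi.vw (mul_left_cancel e)

/-- there is a third independent element -/
theorem exists_third (hE : Pl V z E) (h : Ru V z) {u v : G} (hu : u ∈ E) (hv : v ∈ E) (hu1 : u ≠ 1)
    (hv1 : v ≠ 1) (huv : u ≠ v) : ∃ w, Ind E u v w := by
  have h0 : ∃ w ∈ E, w ≠ 1 ∧ w ≠ u ∧ w ≠ v ∧ w ≠ u * v := by
    by_contra hcon
    push Not at hcon
    have h1 : (E : Set G) ⊆ {1, u, v, u * v} := by
      intro t ht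
      by_cases ht1 : t = 1
      · exact Or.inl ht1
      by_cases ht2 : t = u
      · exact Or.inr (Or.inl ht2)
      by_cases ht3 : t = v
      · exact Or.inr (Or.inr (Or.inl ht3))
      · exact Or.inr (Or.inr (Or.inr (hcon t ht ht1 ht2 ht3)))
    have h2 := Set.ncard_le_ncard h1 (Set.toFinite _)
    have h3 : (E : Set G).ncard = 8 := by rw [← hE.card h]; rfl
    have h4 : ({1, u, v, u * v} : Set G).ncard ≤ 4 := by
      refine (Set.ncard_insert_le _ _).trans ?_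
      have := Set.ncard_insert_le u ({v, u * v} : Set G)
      have := Set.ncard_insert_le v ({u * v} : Set G)
      rw [Set.ncard_singleton] at this
      omega
    omega
  obtain ⟨w, hw, h1, h2, h3, h4⟩ := h0
  exact ⟨w, hu, hv, hw, hu1, hv1, h1, huv, h2.symm, h3.symm, h4.symm⟩

/-- rotation of a line of `E`, fixing a point of `E` -/
theorem exists_rot (hE : Pl V z E) (h : Ru V z) {u v w : G} (hi : Ind E u v w) :
    ∃ c : G, c * u = u * c ∧ c ^ 3 = 1 ∧ c * v * c⁻¹ = w ∧ c * w * c⁻¹ = v * w ∧ cj c E = E := by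
  have hle := hE.le_ws h hi.u_mem hi.u_ne
  have hi' := hE.ind_rot h hi
  obtain ⟨c, h1, h2, h3, h4⟩ := h.star (hE.pt h hi.u_mem hi.u_ne) (hle hi.v_mem) (hle hi.w_mem)
    hi.v_ne hi.uv.symm hi.w_ne hi.uw.symm hi.vw hi'.uvw
  refine ⟨c, h1, h2, h3, h4, ?_⟩
  exact hE.cj_eq h hi.v_mem hi.v_ne hi.w_mem hi.w_ne hi.vw (by rw [h3]; exact hi.w_mem)
    (by rw [h4]; exact mul_mem hi.v_mem hi.w_mem)

theorem le_bb (hE : Pl V z E) (h : Ru V z) {u v : G} (hu : u ∈ E) (hv : v ∈ E) (hu1 : u ≠ 1)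
    (hv1 : v ≠ 1) : E ≤ bb V u v :=
  le_inf (hE.le_ws h hu hu1) ((hE.le_ws h hv hv1).trans (h.ws_le_kq (hE.pt h hv hv1)))

/-- a transvection of `E` in `kq V v` -/
theorem exists_trv (hE : Pl V z E) (h : Ru V z) {u v w : G} (hi : Ind E u v w) :
    ∃ k ∈ kq V v, k * u = u * k ∧ k * w * k⁻¹ = w * v := by
  have hv := hE.pt h hi.v_mem hi.v_ne
  obtain ⟨ρ, hρ⟩ := h.loc_pt hv
  have hle := hE.le_ws h hi.v_mem hi.v_ne
  have huwv : u * w ≠ v := by
    intro e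
    apply hi.uvw
    have := hE.eq_mul h hi.u_mem e
    exact this.symm
  obtain ⟨k, hk, h1, h2⟩ := h.exists_hom hv hρ (hle hi.u_mem) (hle hi.w_mem) hi.u_ne hi.uv hi.w_ne
    hi.vw.symm hi.uw huwv (Or.inl rfl) (Or.inr rfl)
  refine ⟨k, (mem_kq_iff hρ).mpr hk, ?_, h2⟩
  rw [mul_one] at h1
  exact mul_inv_eq_iff_eq_mul.mp h1

/-- ... it acts nontrivially on `ws V u/E` -/
theorem act_quot (hE : Pl V z E) (h : Ru V z) {u v w : G} (hi : Ind E u v w) {k : G}
    (hku : k * u = u * k) (hkv : k * v = v * k) (hkw : k * w * k⁻¹ = w * v) :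
    ∃ g ∈ ws V u, k * g * k⁻¹ * g ∉ E := by
  by_contra hcon
  push Not at hcon
  have hu := hE.pt h hi.u_mem hi.u_ne
  obtain ⟨ρ, hρ⟩ := h.loc_pt hu
  obtain ⟨i, hEi⟩ := hE.exists_pg h hi.u_mem hi.u_ne hρ
  have hkC : k ∈ centralizer ({u} : Set G) := mem_centralizer_singleton_iff.mpr hku
  have h1 : ρ ⟨k, hkC⟩ i = i := by
    refine hρ.idx_fix (w := v) (by rw [← hEi]; exact hi.v_mem) hi.v_ne hi.uv.symm (Or.inl ?_)
    change k * v * k⁻¹ = v
    rw [hkv, mul_inv_cancel_right]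
  have h2 : K4 i (ρ ⟨k, hkC⟩) := hρ.k4_of_quot h1 fun g hg => by
    rw [← hEi]; exact hcon g hg
  have h3 := hρ.fix_of_k4 h2 (w := w) (by rw [← hEi]; exact hi.w_mem)
  change Cg u (k * w * k⁻¹) w at h3
  rw [hkw] at h3
  rcases h3 with e | e
  · exact hi.v_ne (by simpa using e)
  · exact hi.uv.symm (mul_left_cancel e)

theorem card_bb (hE : Pl V z E) (h : Ru V z) {u v : G} (hu : u ∈ E) (hv : v ∈ E) (hu1 : u ≠ 1)
    (hv1 : v ≠ 1) (huv : u ≠ v) : Nat.card (bb V u v) = 16 := by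
  obtain ⟨w, hi⟩ := hE.exists_third h hu hv hu1 hv1 huv
  have hup := hE.pt h hu hu1
  have hvp := hE.pt h hv hv1
  obtain ⟨ρu, hρu⟩ := h.loc_pt hup
  obtain ⟨ρ, hρ⟩ := h.loc_pt hvp
  have h32 : Nat.card (ws V u) = 32 := hρu.card
  have h8 := hE.card h
  have hle := hE.le_bb h hu hv hu1 hv1
  have h1 : Nat.card (bb V u v) ∣ 32 := by rw [← h32]; exact card_dvd_of_le inf_le_left
  have h2 : 8 ∣ Nat.card (bb V u v) := by rw [← h8]; exact card_dvd_of_le hle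
  have h3 : Nat.card (bb V u v) ≠ 32 := by
    intro e
    have e2 : bb V u v = ws V u := Subgroup.eq_of_le_of_card_ge inf_le_left (by rw [e, h32])
    obtain ⟨b, hb, hne⟩ := h.exists_act hvp hρ (hE.le_ws h hv hv1 hu) hu1 huv
    apply hne
    rw [← mem_kq_iff hρ]
    rw [← e2] at hb
    exact hb.2
  have h4 : Nat.card (bb V u v) ≠ 8 := by
    intro e
    have e2 : E = bb V u v := Subgroup.eq_of_le_of_card_ge hle (by rw [e, h8])
    obtain ⟨k, hk, hku, hkw⟩ := hE.exists_trv h hi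
    have hkv : k * v = v * k := mem_centralizer_singleton_iff.mp (kq_le V v hk)
    obtain ⟨g, hg, hgE⟩ := hE.act_quot h hi hku hkv hkw
    apply hgE
    rw [e2]
    refine ⟨mul_mem (h.norm hup hku hg) hg, ?_⟩
    have hgv : g * v = v * g := h.comm hup hg (hE.le_ws h hu hu1 hv)
    have h5 := h.kq_conj hvp (c := g) hgv (inv_mem hk)
    rw [h.inv_ws hup hg] at h5
    have e3 : k * g * k⁻¹ * g = k * (g * k⁻¹ * g) := by group
    rw [e3]; exact mul_mem hk h5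
  have h6 : Nat.card (bb V u v) ≤ 32 := Nat.le_of_dvd (by norm_num) h1
  interval_cases (Nat.card (bb V u v)) <;> omega

theorem bb_same (hE : Pl V z E) (h : Ru V z) {u v : G} (hu : u ∈ E) (hv : v ∈ E) (hu1 : u ≠ 1)
    (hv1 : v ≠ 1) (huv : u ≠ v) : bb V u (u * v) = bb V u v := by
  obtain ⟨w, hi⟩ := hE.exists_third h hu hv hu1 hv1 huv
  have hup := hE.pt h hu hu1
  have hvp := hE.pt h hv hv1
  have huv1 : u * v ≠ 1 := fun e => huv (by rw [mul_eq_one_iff_eq_inv.mp e, hE.inv h hv])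
  have huvu : u ≠ u * v := fun e => hv1 (by simpa using e.symm)
  have huvE := mul_mem hu hv
  obtain ⟨ρu, hρu⟩ := h.loc_pt hup
  obtain ⟨k, hk, hku, hkw⟩ := hE.exists_trv h hi
  have hkv : k * v = v * k := mem_centralizer_singleton_iff.mp (kq_le V v hk)
  obtain ⟨g, hg, hgE⟩ := hE.act_quot h hi hku hkv hkw
  have hgv : g * v = v * g := h.comm hup hg (hE.le_ws h hu hu1 hv)
  have c1 := hE.card_bb h hu hv hu1 hv1 huv
  have c2 := hE.card_bb h hu huvE hu1 huv1 huvu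
  have c0 : Nat.card (ws V u) = 32 := hρu.card
  -- `t = [k, g]` in both
  have ht1 : k * g * k⁻¹ * g ∈ bb V u v := by
    refine ⟨mul_mem (h.norm hup hku hg) hg, ?_⟩
    have h5 := h.kq_conj hvp (c := g) hgv (inv_mem hk)
    rw [h.inv_ws hup hg] at h5
    have e3 : k * g * k⁻¹ * g = k * (g * k⁻¹ * g) := by group
    rw [e3]; exact mul_mem hk h5
  have hcj : cj k (bb V u (u * v)) = bb V u (u * v) := by
    rw [cj_bb]
    have e1 : k * u * k⁻¹ = u := by rw [hku, mul_inv_cancel_right]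
    have e2 : k * v * k⁻¹ = v := by rw [hkv, mul_inv_cancel_right]
    have e3 : k * (u * v) * k⁻¹ = u * v := by
      calc k * (u * v) * k⁻¹ = (k * u * k⁻¹) * (k * v * k⁻¹) := by group
        _ = u * v := by rw [e1, e2]
    rw [e1, e3]
  have hkm : ∀ {t : G}, k * t * k⁻¹ ∈ bb V u (u * v) ↔ t ∈ bb V u (u * v) := by
    intro t
    conv_lhs => rw [← hcj]
    rw [mem_cj]
    have : k⁻¹ * (k * t * k⁻¹) * k = t := by group
    rw [this]
  have ht2 : k * g * k⁻¹ * g ∈ bb V u (u * v) := by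
    by_cases hgb : g ∈ bb V u (u * v)
    · exact mul_mem (hkm.mpr hgb) hgb
    · exact mul_mem_of_two (bb_le V _ _) (by rw [c0, c2]) (by rw [c2]; norm_num)
        (h.norm hup hku hg) hg (fun e => hgb (hkm.mp e)) hgb
  -- the intersection
  have hle : E ≤ bb V u v ⊓ bb V u (u * v) :=
    le_inf (hE.le_bb h hu hv hu1 hv1) (hE.le_bb h hu huvE hu1 huv1)
  have d1 : Nat.card (bb V u v ⊓ bb V u (u * v) : Subgroup G) ∣ 16 := by
    rw [← c1]; exact card_dvd_of_le inf_le_left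
  have d2 : Nat.card E ∣ Nat.card (bb V u v ⊓ bb V u (u * v) : Subgroup G) := card_dvd_of_le hle
  rw [hE.card h] at d2
  have d3 : Nat.card (bb V u v ⊓ bb V u (u * v) : Subgroup G) ≠ 8 := by
    intro e
    have e2 : E = bb V u v ⊓ bb V u (u * v) := Subgroup.eq_of_le_of_card_ge hle (by rw [e, hE.card h])
    exact hgE (by rw [e2]; exact ⟨ht1, ht2⟩)
  have d4 : Nat.card (bb V u v ⊓ bb V u (u * v) : Subgroup G) = 16 := by
    have d5 := Nat.le_of_dvd (by norm_num) d1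
    interval_cases (Nat.card (bb V u v ⊓ bb V u (u * v) : Subgroup G)) <;> omega
  have e1 : bb V u v ⊓ bb V u (u * v) = bb V u v :=
    Subgroup.eq_of_le_of_card_ge inf_le_left (by rw [d4, c1])
  have e2 : bb V u v ⊓ bb V u (u * v) = bb V u (u * v) :=
    Subgroup.eq_of_le_of_card_ge inf_le_right (by rw [d4, c2])
  rw [← e2, e1]

/-- the three subgroups `bb V u v` (`v ∈ E`) are different -/
theorem bb_inf (hE : Pl V z E) (h : Ru V z) {u v w : G} (hi : Ind E u v w) {g : G}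
    (hg1 : g ∈ bb V u v) (hg2 : g ∈ bb V u w) : g ∈ E := by
  have hup := hE.pt h hi.u_mem hi.u_ne
  obtain ⟨ρ, hρ⟩ := h.loc_pt hup
  have c0 : Nat.card (ws V u) = 32 := hρ.card
  have c1 := hE.card_bb h hi.u_mem hi.v_mem hi.u_ne hi.v_ne hi.uv
  have c2 := hE.card_bb h hi.u_mem hi.w_mem hi.u_ne hi.w_ne hi.uw
  obtain ⟨c, hcu, hc3, hcv, hcw, hcE⟩ := hE.exists_rot h hi
  have hcu' : c * u * c⁻¹ = u := by rw [hcu, mul_inv_cancel_right]
  have hcj : cj c (bb V u v) = bb V u w := by rw [cj_bb, hcu', hcv]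
  have hne : bb V u v ≠ bb V u w := by
    intro e
    have hkm : ∀ {t : G}, c * t * c⁻¹ ∈ bb V u v ↔ t ∈ bb V u v := by
      intro t
      conv_lhs => rw [e, ← hcj]
      rw [mem_cj]
      have : c⁻¹ * (c * t * c⁻¹) * c = t := by group
      rw [this]
    obtain ⟨t, ht, htb⟩ : ∃ t ∈ ws V u, t ∉ bb V u v := by
      by_contra hcon
      push Not at hcon
      have : Nat.card (ws V u) ≤ Nat.card (bb V u v) := Subgroup.card_le_of_le hcon
      rw [c0, c1] at this; omega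
    have h1 : c * t * c⁻¹ ∉ bb V u v := fun e => htb (hkm.mp e)
    have h2 : c * (c * t * c⁻¹) * c⁻¹ ∉ bb V u v := fun e => h1 (hkm.mp e)
    have h3 : t * (c * t * c⁻¹) ∈ bb V u v :=
      mul_mem_of_two (bb_le V _ _) (by rw [c0, c1]) (by rw [c1]; norm_num)
        ht (h.norm hup hcu ht) htb h1
    have hcC : c ∈ centralizer ({u} : Set G) := mem_centralizer_singleton_iff.mpr hcu
    have hO : O3 (ρ ⟨c, hcC⟩) := by
      constructor
      · rw [← map_mul, ← map_mul]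
        have : (⟨c, hcC⟩ * ⟨c, hcC⟩ * ⟨c, hcC⟩ : centralizer ({u} : Set G)) = 1 := by
          apply Subtype.ext
          change c * c * c = 1
          rw [← hc3]; simp only [pow_succ, pow_zero, one_mul]
        rw [this, map_one]
      · intro e1
        have h4 := (hρ.ker _).mp e1 v (hE.le_ws h hi.u_mem hi.u_ne hi.v_mem)
        change Cg u (c * v * c⁻¹) v at h4
        rw [hcv] at h4
        rcases h4 with e4 | e4
        · exact hi.vw e4.symm
        · apply hi.uvw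
          rw [e4, hE.comm h hi.v_mem hi.u_mem]
    have h5 : t * (c * t * c⁻¹) * (c * (c * t * c⁻¹) * c⁻¹) ∈ bb V u v := by
      have huE : u ∈ bb V u v := hE.le_bb h hi.u_mem hi.v_mem hi.u_ne hi.v_ne hi.u_mem
      rcases hρ.three_sum hO ht with e5 | e5
      · change t * (c * t * c⁻¹) * (c * (c * t * c⁻¹) * c⁻¹) = 1 at e5
        rw [e5]; exact one_mem _
      · change t * (c * t * c⁻¹) * (c * (c * t * c⁻¹) * c⁻¹) = u at e5
        rw [e5]; exact huE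
    exact h2 ((Subgroup.mul_mem_cancel_left _ h3).mp h5)
  have hle : E ≤ bb V u v ⊓ bb V u w :=
    le_inf (hE.le_bb h hi.u_mem hi.v_mem hi.u_ne hi.v_ne) (hE.le_bb h hi.u_mem hi.w_mem hi.u_ne hi.w_ne)
  have d1 : Nat.card (bb V u v ⊓ bb V u w : Subgroup G) ∣ 16 := by
    rw [← c1]; exact card_dvd_of_le inf_le_left
  have d2 : Nat.card E ∣ Nat.card (bb V u v ⊓ bb V u w : Subgroup G) := card_dvd_of_le hle
  rw [hE.card h] at d2
  have d3 : Nat.card (bb V u v ⊓ bb V u w : Subgroup G) ≠ 16 := by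
    intro e
    apply hne
    have e1 : bb V u v ⊓ bb V u w = bb V u v :=
      Subgroup.eq_of_le_of_card_ge inf_le_left (by rw [e, c1])
    have e2 : bb V u v ⊓ bb V u w = bb V u w :=
      Subgroup.eq_of_le_of_card_ge inf_le_right (by rw [e, c2])
    rw [← e2, e1]
  have d4 : Nat.card (bb V u v ⊓ bb V u w : Subgroup G) = 8 := by
    have d5 := Nat.le_of_dvd (by norm_num) d1
    interval_cases (Nat.card (bb V u v ⊓ bb V u w : Subgroup G)) <;> omega
  have e3 : E = bb V u v ⊓ bb V u w := Subgroup.eq_of_le_of_card_ge hle (by rw [d4, hE.card h])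
  rw [e3]; exact ⟨hg1, hg2⟩

/-- `[bb V u v, bb V v u] = 1` -/
theorem bb_comm (hE : Pl V z E) (h : Ru V z) {u v : G} (hu : u ∈ E) (hv : v ∈ E) (hu1 : u ≠ 1)
    (hv1 : v ≠ 1) (huv : u ≠ v) {a b : G} (ha : a ∈ bb V u v) (hb : b ∈ bb V v u) : a * b = b * a := by
  have hup := hE.pt h hu hu1
  have hvp := hE.pt h hv hv1
  rcases h.kq_act hvp ha.2 hb.1 with e | e
  · exact mul_inv_eq_iff_eq_mul.mp e
  rcases h.kq_act hup hb.2 ha.1 with e' | e'
  · exact (mul_inv_eq_iff_eq_mul.mp e').symm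
  · exfalso
    apply huv
    have e1 : a * b * a⁻¹ * b⁻¹ = v := by
      rw [e, h.comm hvp hb.1 (h.self_mem hvp), mul_inv_cancel_right]
    have e2 : b * a * b⁻¹ * a⁻¹ = u := by
      rw [e', h.comm hup ha.1 (h.self_mem hup), mul_inv_cancel_right]
    have e3 : b * a * b⁻¹ * a⁻¹ = (a * b * a⁻¹ * b⁻¹)⁻¹ := by group
    rw [e1, e2] at e3
    rw [e3, hE.inv h hv]

/-- elements of `bb V v u` outside `E` act on `ws V u` as a transvection with axis `bb V u v` -/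
theorem bb_act (hE : Pl V z E) (h : Ru V z) {u v : G} (hu : u ∈ E) (hv : v ∈ E) (hu1 : u ≠ 1)
    (hv1 : v ≠ 1) (huv : u ≠ v) {a b : G} (ha : a ∈ ws V u) (ha' : a ∉ bb V u v) (hb : b ∈ bb V v u)
    (hbE : b ∉ E) : b * a * b⁻¹ = a * u := by
  have hup := hE.pt h hu hu1
  have hvp := hE.pt h hv hv1
  rcases h.kq_act hup hb.2 ha with e | e
  · exfalso
    obtain ⟨ρ, hρ⟩ := h.loc_pt hvp
    have huv' : u ∈ ws V v := hE.le_ws h hv hv1 hu
    have hne : ρ (h.el' hvp huv' hu1 ha) ≠ 1 := by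
      intro e1
      exact ha' ⟨ha, (mem_kq_iff hρ (c := h.el' hvp huv' hu1 ha)).mpr e1⟩
    have h1 := h.cx_eq_inf hvp hρ huv' hu1 ha hne
    rw [← hE.eq_inf h hv hv1 hu hu1 huv.symm] at h1
    apply hbE
    rw [← h1, hρ.mem_cx]
    refine ⟨hb.1, Or.inl ?_⟩
    change a * b * a⁻¹ = b
    rw [← mul_inv_eq_iff_eq_mul.mp e, mul_inv_cancel_right]
  · exact e

end Pl

end Cfsg.Agent.Omega.RuShape.Base

end

section


/-!
# The Ru configuration: the product over a line (after helper794's `OddCyclic.GamTri`)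

`Fl V E u v g`: `g ∈ bb V u v` outside `E`; `Tri V E u v g₁ g₂ g₃`: one such element for each point of the line
`⟨u, v⟩`. `Tri.cent`: the product centralises all `ws V x`, `x ∈ E`; `Tri.eq_mod`: modulo `E` it does not depend on the
line (lines through a common point).
-/

set_option autoImplicit false
set_option linter.dupNamespace false
set_option linter.unusedSectionVars false

namespace Cfsg.Agent.Omega.RuShape.Base

open Subgroup Cfsg Cfsg.Agent.ZN Cfsg.Agent.MinSimple.Geo Cfsg.Agent.MinSimple.OddBase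
open Cfsg.Agent.OddCyclic Cfsg.Agent.OddCyclic.GamPerm Cfsg.Agent.OddCyclic.GamMod Cfsg.Agent.OddCyclic.GamLoc
open Cfsg.Agent.OddCyclic.GamBase (cc cc_surj cg_conj loc_conj ws_cj' lines_cj')
open Cfsg.Agent.ZN.Block (conj_mem_of_normalizer conj_mem_of_normalizer' le_normalizer_of_forall
  mem_normalizer_of)

universe u

variable {G : Type u} [Group G]

/-- `g ∈ bb V u v` outside `E` -/
structure Fl (V E : Subgroup G) (u v g : G) : Prop where
  mem : g ∈ bb V u v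
  notMem : g ∉ E

/-- two points of a plane -/
structure Two (E : Subgroup G) (u v : G) : Prop where
  u_mem : u ∈ E
  v_mem : v ∈ E
  u_ne : u ≠ 1
  v_ne : v ≠ 1
  uv : u ≠ v

theorem Ind.two {E : Subgroup G} {u v w : G} (h : Ind E u v w) : Two E u v :=
  ⟨h.u_mem, h.v_mem, h.u_ne, h.v_ne, h.uv⟩

theorem Two.swap {E : Subgroup G} {u v : G} (h : Two E u v) : Two E v u :=
  ⟨h.v_mem, h.u_mem, h.v_ne, h.u_ne, h.uv.symm⟩

theorem Fl.conj {V E : Subgroup G} {u v g : G} (h : Fl V E u v g) {c : G} (hc : cj c E = E) :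
    Fl V E (c * u * c⁻¹) (c * v * c⁻¹) (c * g * c⁻¹) := by
  refine ⟨?_, ?_⟩
  · rw [← cj_bb]; exact conj_mem_cj h.mem
  · intro h1
    apply h.notMem
    rw [← hc, mem_cj] at h1
    have : c⁻¹ * (c * g * c⁻¹) * c = g := by group
    rwa [this] at h1

namespace Pl

variable {V : Subgroup G} {z : G} [Finite G] {E : Subgroup G}

theorem two_mul (hE : Pl V z E) (h : Ru V z) {u v : G} (t : Two E u v) : Two E u (u * v) := by
  refine ⟨t.u_mem, mul_mem t.u_mem t.v_mem, t.u_ne, ?_, ?_⟩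
  · intro e; exact t.uv (by rw [mul_eq_one_iff_eq_inv.mp e, hE.inv h t.v_mem])
  · intro e; exact t.v_ne (by simpa using e.symm)

theorem fl_comm_E (hE : Pl V z E) (h : Ru V z) {u v : G} (t : Two E u v) {g : G} (hg : Fl V E u v g)
    {e : G} (he : e ∈ E) : g * e = e * g := hE.ws_comm h t.u_mem t.u_ne hg.mem.1 he

theorem fl_sq (hE : Pl V z E) (h : Ru V z) {u v : G} (t : Two E u v) {g : G} (hg : Fl V E u v g) :
    g * g = 1 := h.sq_ws (hE.pt h t.u_mem t.u_ne) hg.mem.1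

theorem exists_fl (hE : Pl V z E) (h : Ru V z) {u v : G} (t : Two E u v) : ∃ g, Fl V E u v g := by
  by_contra hcon
  push Not at hcon
  have h1 : bb V u v ≤ E := fun g hg => by
    by_contra hgE
    exact hcon g ⟨hg, hgE⟩
  have h2 := Subgroup.card_le_of_le h1
  rw [hE.card h, hE.card_bb h t.u_mem t.v_mem t.u_ne t.v_ne t.uv] at h2
  omega

theorem fl_eq (hE : Pl V z E) (h : Ru V z) {u v : G} (t : Two E u v) {g g' : G} (hg : Fl V E u v g)
    (hg' : Fl V E u v g') : ∃ e ∈ E, g' = g * e := by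
  refine ⟨g * g', ?_, ?_⟩
  · exact mul_mem_of_two (hE.le_bb h t.u_mem t.v_mem t.u_ne t.v_ne)
      (by rw [hE.card h, hE.card_bb h t.u_mem t.v_mem t.u_ne t.v_ne t.uv]) (by rw [hE.card h]; norm_num)
      hg.mem hg'.mem hg.notMem hg'.notMem
  · rw [← mul_assoc, hE.fl_sq h t hg, one_mul]

theorem fl_same (hE : Pl V z E) (h : Ru V z) {u v : G} (t : Two E u v) {g : G} :
    Fl V E u (u * v) g ↔ Fl V E u v g := by
  constructor
  · rintro ⟨h1, h2⟩
    exact ⟨by rwa [hE.bb_same h t.u_mem t.v_mem t.u_ne t.v_ne t.uv] at h1, h2⟩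
  · rintro ⟨h1, h2⟩
    exact ⟨by rwa [hE.bb_same h t.u_mem t.v_mem t.u_ne t.v_ne t.uv], h2⟩

/-- the action of `Fl V E v u g` on `ws V u` -/
theorem fl_act (hE : Pl V z E) (h : Ru V z) {u v : G} (t : Two E u v) {g a : G} (hg : Fl V E v u g)
    (ha : a ∈ ws V u) : (a ∈ bb V u v ∧ g * a = a * g) ∨ (a ∉ bb V u v ∧ g * a * g⁻¹ = a * u) := by
  by_cases h1 : a ∈ bb V u v
  · exact Or.inl ⟨h1, (hE.bb_comm h t.u_mem t.v_mem t.u_ne t.v_ne t.uv h1 hg.mem).symm⟩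
  · exact Or.inr ⟨h1, hE.bb_act h t.u_mem t.v_mem t.u_ne t.v_ne t.uv ha h1 hg.mem hg.notMem⟩

/-- two of them on the same line act in the same way on the third -/
theorem fl_act_two (hE : Pl V z E) (h : Ru V z) {u v : G} (t : Two E u v) {g g' a : G}
    (hg : Fl V E v u g) (hg' : Fl V E (u * v) u g') (ha : a ∈ ws V u) : g * g' * a = a * (g * g') := by
  have hup := hE.pt h t.u_mem t.u_ne
  have t' := hE.two_mul h t
  have e1 : bb V u (u * v) = bb V u v := hE.bb_same h t.u_mem t.v_mem t.u_ne t.v_ne t.uv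
  have h1 := hE.fl_act h t hg ha
  have h2 := hE.fl_act h t' hg' ha
  rw [e1] at h2
  rcases h1 with ⟨h1, e2⟩ | ⟨h1, e2⟩
  · rcases h2 with ⟨h2, e3⟩ | ⟨h2, e3⟩
    · rw [mul_assoc, e3, ← mul_assoc, e2, mul_assoc]
    · exact absurd h1 h2
  · rcases h2 with ⟨h2, e3⟩ | ⟨h2, e3⟩
    · exact absurd h2 h1
    · apply mul_inv_eq_iff_eq_mul.mp
      have hgu : g * u * g⁻¹ = u := by
        have hvp := hE.pt h t.v_mem t.v_ne
        rw [h.comm hvp hg.mem.1 (hE.le_ws h t.v_mem t.v_ne t.u_mem), mul_inv_cancel_right]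
      calc g * g' * a * (g * g')⁻¹ = g * (g' * a * g'⁻¹) * g⁻¹ := by group
        _ = (g * a * g⁻¹) * (g * u * g⁻¹) := by rw [e3]; group
        _ = a := by rw [e2, hgu, mul_assoc, h.xx hup, mul_one]

end Pl

/-- one element for each point of a line -/
structure Tri (V E : Subgroup G) (u v g₁ g₂ g₃ : G) : Prop where
  f1 : Fl V E u v g₁
  f2 : Fl V E v u g₂
  f3 : Fl V E (u * v) u g₃

namespace Pl

variable {V : Subgroup G} {z : G} [Finite G] {E : Subgroup G}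

theorem exists_tri (hE : Pl V z E) (h : Ru V z) {u v : G} (t : Two E u v) :
    ∃ g₁ g₂ g₃, Tri V E u v g₁ g₂ g₃ := by
  obtain ⟨g₁, h1⟩ := hE.exists_fl h t
  obtain ⟨g₂, h2⟩ := hE.exists_fl h t.swap
  obtain ⟨g₃, h3⟩ := hE.exists_fl h (hE.two_mul h t).swap
  exact ⟨g₁, g₂, g₃, h1, h2, h3⟩

/-- the third point with the second -/
theorem fl_third (hE : Pl V z E) (h : Ru V z) {u v : G} (t : Two E u v) {g : G} :
    Fl V E (u * v) u g ↔ Fl V E (u * v) v g := by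
  have t' := (hE.two_mul h t).swap
  have e : u * v * u = v := by
    rw [hE.comm h t.u_mem t.v_mem, mul_assoc, hE.sq h t.u_mem, mul_one]
  rw [← hE.fl_same h t', e]

theorem tri_comm (hE : Pl V z E) (h : Ru V z) {u v : G} (t : Two E u v) {g₁ g₂ g₃ : G}
    (T : Tri V E u v g₁ g₂ g₃) : g₁ * g₂ = g₂ * g₁ ∧ g₁ * g₃ = g₃ * g₁ ∧ g₂ * g₃ = g₃ * g₂ := by
  refine ⟨?_, ?_, ?_⟩
  · exact hE.bb_comm h t.u_mem t.v_mem t.u_ne t.v_ne t.uv T.f1.mem T.f2.mem
  · have t' := hE.two_mul h t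
    exact hE.bb_comm h t'.u_mem t'.v_mem t'.u_ne t'.v_ne t'.uv ((hE.fl_same h t).mpr T.f1).mem T.f3.mem
  · have t' := hE.two_mul h t.swap
    have e : v * u = u * v := hE.comm h t.v_mem t.u_mem
    rw [e] at t'
    refine hE.bb_comm h t'.u_mem t'.v_mem t'.u_ne t'.v_ne t'.uv ?_ ((hE.fl_third h t).mp T.f3).mem
    rw [← e]
    exact ((hE.fl_same h t.swap).mpr T.f2).mem

/-- the action of the product on the three points of the line -/
theorem tri_cent_line (hE : Pl V z E) (h : Ru V z) {u v : G} (t : Two E u v) {g₁ g₂ g₃ : G}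
    (T : Tri V E u v g₁ g₂ g₃) {x : G} (hx : x = u ∨ x = v ∨ x = u * v) {a : G} (ha : a ∈ ws V x) :
    g₁ * g₂ * g₃ * a = a * (g₁ * g₂ * g₃) := by
  have hup := hE.pt h t.u_mem t.u_ne
  have hvp := hE.pt h t.v_mem t.v_ne
  obtain ⟨c1, c2, c3⟩ := hE.tri_comm h t T
  have evu : v * u = u * v := hE.comm h t.v_mem t.u_mem
  rcases hx with rfl | rfl | rfl
  · have h1 : g₁ * a = a * g₁ := h.comm hup T.f1.mem.1 ha
    have h2 := hE.fl_act_two h t T.f2 T.f3 ha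
    calc g₁ * g₂ * g₃ * a = g₁ * (g₂ * g₃ * a) := by group
      _ = g₁ * a * (g₂ * g₃) := by rw [h2]; group
      _ = a * (g₁ * g₂ * g₃) := by rw [h1]; group
  · have h1 : g₂ * a = a * g₂ := h.comm hvp T.f2.mem.1 ha
    have h3 := hE.fl_act_two h t.swap T.f1 (g' := g₃) (by rw [evu]; exact (hE.fl_third h t).mp T.f3) ha
    calc g₁ * g₂ * g₃ * a = g₂ * (g₁ * g₃ * a) := by rw [c1]; group
      _ = (g₂ * a) * (g₁ * g₃) := by rw [h3]; group
      _ = a * (g₂ * g₁ * g₃) := by rw [h1]; group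
      _ = a * (g₁ * g₂ * g₃) := by rw [c1]
  · have t' := (hE.two_mul h t).swap
    have hwp := hE.pt h t'.u_mem t'.u_ne
    have h1 : g₃ * a = a * g₃ := h.comm hwp T.f3.mem.1 ha
    -- base point `u v`, other points `u` and `(u v) u = v`
    have e : u * v * u = v := by
      rw [← evu, mul_assoc, hE.sq h t.u_mem, mul_one]
    have h2 : g₁ * g₂ * a = a * (g₁ * g₂) := by
      refine hE.fl_act_two h t' (g := g₁) (g' := g₂) ((hE.fl_same h t).mpr T.f1) ?_ ha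
      rw [e]
      have := (hE.fl_same h t.swap).mpr T.f2
      rwa [evu] at this
    calc g₁ * g₂ * g₃ * a = g₁ * g₂ * (g₃ * a) := by group
      _ = (g₁ * g₂ * a) * g₃ := by rw [h1]; group
      _ = a * (g₁ * g₂ * g₃) := by rw [h2]; group

/-- the rotation of a line, modulo `E` -/
theorem tri_rot (hE : Pl V z E) (h : Ru V z) {u v : G} (t : Two E u v) {g₁ g₂ g₃ : G}
    (T : Tri V E u v g₁ g₂ g₃) {c : G} (hc : cj c E = E) (hcu : c * u * c⁻¹ = v)
    (hcv : c * v * c⁻¹ = u * v) :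
    ∃ e₁ ∈ E, ∃ e₂ ∈ E, ∃ e₃ ∈ E, c * g₁ * c⁻¹ = g₂ * e₁ ∧ c * g₂ * c⁻¹ = g₃ * e₂ ∧
      c * g₃ * c⁻¹ = g₁ * e₃ := by
  have evu : v * u = u * v := hE.comm h t.v_mem t.u_mem
  have hcw : c * (u * v) * c⁻¹ = u := by
    calc c * (u * v) * c⁻¹ = (c * u * c⁻¹) * (c * v * c⁻¹) := by group
      _ = v * (u * v) := by rw [hcu, hcv]
      _ = u := by rw [← evu, ← mul_assoc, hE.sq h t.v_mem, one_mul]
  have h1 : Fl V E v u (c * g₁ * c⁻¹) := by
    have := T.f1.conj hc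
    rw [hcu, hcv, ← evu] at this
    exact (hE.fl_same h t.swap).mp this
  have h2 : Fl V E (u * v) u (c * g₂ * c⁻¹) := by
    have := T.f2.conj hc
    rw [hcu, hcv] at this
    exact (hE.fl_third h t).mpr this
  have h3 : Fl V E u v (c * g₃ * c⁻¹) := by
    have := T.f3.conj hc
    rwa [hcu, hcw] at this
  obtain ⟨e₁, he₁, q1⟩ := hE.fl_eq h t.swap T.f2 h1
  obtain ⟨e₂, he₂, q2⟩ := hE.fl_eq h (hE.two_mul h t).swap T.f3 h2
  obtain ⟨e₃, he₃, q3⟩ := hE.fl_eq h t T.f1 h3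
  exact ⟨e₁, he₁, e₂, he₂, e₃, he₃, q1, q2, q3⟩

/-- elements of order three -/
theorem o3_of_rot (_ : Ru V z) {x p q c : G} (_ : Pt z x)
    {ρ : centralizer ({x} : Set G) →* S5} (hρ : Loc (ws V x) x ρ) (hp : p ∈ ws V x)
    (hc : c ∈ centralizer ({x} : Set G)) (hc3 : c ^ 3 = 1) (hcp : c * p * c⁻¹ = q)
    (hpq : p ≠ q) (hpqx : p * x ≠ q) : O3 (ρ ⟨c, hc⟩) := by
  constructor
  · rw [← map_mul, ← map_mul]
    have : (⟨c, hc⟩ * ⟨c, hc⟩ * ⟨c, hc⟩ : centralizer ({x} : Set G)) = 1 := by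
      apply Subtype.ext
      change c * c * c = 1
      rw [← hc3]; simp only [pow_succ, pow_zero, one_mul]
    rw [this, map_one]
  · intro e1
    have h4 := (hρ.ker _).mp e1 p hp
    change Cg x (c * p * c⁻¹) p at h4
    rw [hcp] at h4
    rcases h4 with e4 | e4
    · exact hpq e4.symm
    · exact hpqx e4.symm

/-- the action of the product on the points outside the line -/
theorem tri_cent_out (hE : Pl V z E) (h : Ru V z) {u v x : G} (hi : Ind E x u v) {g₁ g₂ g₃ : G}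
    (T : Tri V E u v g₁ g₂ g₃) {a : G} (ha : a ∈ ws V x) :
    g₁ * g₂ * g₃ * a = a * (g₁ * g₂ * g₃) := by
  have hi' := hE.ind_rot h hi
  have t := hi'.two
  have hxp := hE.pt h hi.u_mem hi.u_ne
  have hup := hE.pt h t.u_mem t.u_ne
  have hvp := hE.pt h t.v_mem t.v_ne
  have evu : v * u = u * v := hE.comm h t.v_mem t.u_mem
  obtain ⟨c1, c2, c3⟩ := hE.tri_comm h t T
  obtain ⟨ρ, hρ⟩ := h.loc_pt hxp
  obtain ⟨i, hEi⟩ := hE.exists_pg h hi.u_mem hi.u_ne hρ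
  obtain ⟨c, hcx, hc3, hcu, hcv, hcE⟩ := hE.exists_rot h hi
  obtain ⟨e₁, he₁, e₂, he₂, e₃, he₃, q1, q2, q3⟩ := hE.tri_rot h t T hcE hcu hcv
  have hcC : c ∈ centralizer ({x} : Set G) := mem_centralizer_singleton_iff.mpr hcx
  have huW := hE.le_ws h hi.u_mem hi.u_ne t.u_mem
  have hO : O3 (ρ ⟨c, hcC⟩) := o3_of_rot h hxp hρ huW hcC hc3 hcu t.uv (by
    rw [hE.comm h t.u_mem hi.u_mem]; exact hi.uvw)
  have hci : ρ ⟨c, hcC⟩ i = i := by
    by_contra hne
    have h1 := hρ.conj_mem_pg (w := u) (i := i) (by rw [← hEi]; exact t.u_mem) ⟨c, hcC⟩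
    change c * u * c⁻¹ ∈ _ at h1
    rw [hcu] at h1
    rcases hρ.pg_inf hne h1 (by rw [← hEi]; exact t.v_mem) with e | e
    · exact t.v_ne e
    · exact hi.uw e.symm
  have hgC : ∀ {p q g : G}, Two E p q → Fl V E p q g → g ∈ centralizer ({x} : Set G) :=
    fun {p q g} t hg => mem_centralizer_singleton_iff.mpr (hE.fl_comm_E h t hg hi.u_mem)
  have t3 := (hE.two_mul h t).swap
  have hg1 := hgC t T.f1
  have hg2 := hgC t.swap T.f2
  have hg3 := hgC t3 T.f3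
  have heC : ∀ {e : G}, e ∈ E → e ∈ centralizer ({x} : Set G) := fun {e} he =>
    mem_centralizer_singleton_iff.mpr (hE.comm h he hi.u_mem)
  have hρE : ∀ {e : G} (he : e ∈ E), ρ ⟨e, heC he⟩ = 1 := by
    intro e he
    rw [hρ.ker]
    intro w hw
    left
    change e * w * e⁻¹ = w
    rw [hρ.comm e (hE.le_ws h hi.u_mem hi.u_ne he) w hw, mul_inv_cancel_right]
  have hk4 : K4 i (ρ ⟨g₁, hg1⟩) := hρ.k4_of_pg fun w hw => Or.inl (by
    change g₁ * w * g₁⁻¹ = w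
    rw [hE.fl_comm_E h t T.f1 (by rw [hEi]; exact hw), mul_inv_cancel_right])
  have hk1 : ρ ⟨g₁, hg1⟩ ≠ 1 := by
    intro e
    have h1 : g₁ ∈ bb V u x := ⟨T.f1.mem.1, (mem_kq_iff hρ (c := ⟨g₁, hg1⟩)).mpr e⟩
    exact T.f1.notMem (hE.bb_inf h hi' T.f1.mem h1)
  have r2 : ρ ⟨g₂, hg2⟩ = ρ ⟨c, hcC⟩ * ρ ⟨g₁, hg1⟩ * (ρ ⟨c, hcC⟩)⁻¹ := by
    have h1 : (⟨g₂, hg2⟩ * ⟨e₁, heC he₁⟩ : centralizer ({x} : Set G)) =
        ⟨c, hcC⟩ * ⟨g₁, hg1⟩ * ⟨c, hcC⟩⁻¹ := Subtype.ext q1.symm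
    have h2 := congrArg ρ h1
    rw [map_mul, hρE he₁, mul_one, map_mul, map_mul, map_inv] at h2
    exact h2
  have r3 : ρ ⟨g₃, hg3⟩ = ρ ⟨c, hcC⟩ * ρ ⟨g₂, hg2⟩ * (ρ ⟨c, hcC⟩)⁻¹ := by
    have h1 : (⟨g₃, hg3⟩ * ⟨e₂, heC he₂⟩ : centralizer ({x} : Set G)) =
        ⟨c, hcC⟩ * ⟨g₂, hg2⟩ * ⟨c, hcC⟩⁻¹ := Subtype.ext q2.symm
    have h2 := congrArg ρ h1
    rw [map_mul, hρE he₂, mul_one, map_mul, map_mul, map_inv] at h2
    exact h2
  have hrot := k4_rot i _ hk4 hk1 _ hci hO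
  rw [← r2, ← r3] at hrot
  have hj1 : ρ (⟨g₁, hg1⟩ * ⟨g₂, hg2⟩ * ⟨g₃, hg3⟩) = 1 := by rw [map_mul, map_mul]; exact hrot
  set j : G := g₁ * g₂ * g₃ with hj
  have hjC : ((⟨g₁, hg1⟩ * ⟨g₂, hg2⟩ * ⟨g₃, hg3⟩ : centralizer ({x} : Set G)) : G) = j := rfl
  have hneg : ∀ w ∈ ws V x, j * w * j⁻¹ = w ∨ j * w * j⁻¹ = w * x := by
    intro w hw
    have := (hρ.ker _).mp hj1 w hw
    rw [hjC] at this
    exact this
  -- `c j c⁻¹ = j e`
  have hcomm1 : ∀ {e : G}, e ∈ E → g₁ * e = e * g₁ := fun he => hE.fl_comm_E h t T.f1 he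
  have hcomm2 : ∀ {e : G}, e ∈ E → g₂ * e = e * g₂ := fun he => hE.fl_comm_E h t.swap T.f2 he
  have hcomm3 : ∀ {e : G}, e ∈ E → g₃ * e = e * g₃ := fun he => hE.fl_comm_E h t3 T.f3 he
  have hcj : c * j * c⁻¹ = j * (e₁ * e₂ * e₃) := by
    have h1 : c * j * c⁻¹ = (c * g₁ * c⁻¹) * (c * g₂ * c⁻¹) * (c * g₃ * c⁻¹) := by rw [hj]; group
    rw [h1, q1, q2, q3]
    calc g₂ * e₁ * (g₃ * e₂) * (g₁ * e₃) = g₂ * (e₁ * g₃) * (e₂ * g₁) * e₃ := by group
      _ = g₂ * (g₃ * e₁) * (g₁ * e₂) * e₃ := by rw [← hcomm3 he₁, ← hcomm1 he₂]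
      _ = g₂ * g₃ * (e₁ * g₁) * e₂ * e₃ := by group
      _ = g₂ * g₃ * (g₁ * e₁) * e₂ * e₃ := by rw [← hcomm1 he₁]
      _ = g₂ * (g₃ * g₁) * e₁ * e₂ * e₃ := by group
      _ = (g₂ * g₁) * g₃ * e₁ * e₂ * e₃ := by rw [← c2]; group
      _ = j * (e₁ * e₂ * e₃) := by rw [← c1, hj]; group
  have heW : ∀ {e : G}, e ∈ E → ∀ w ∈ ws V x, e * w = w * e := fun {e} he w hw =>
    hρ.comm e (hE.le_ws h hi.u_mem hi.u_ne he) w hw
  have hstep : ∀ w ∈ ws V x, j * w * j⁻¹ = w * x → j * (c * w * c⁻¹) * j⁻¹ = c * w * c⁻¹ * x := by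
    intro w hw hwx
    have hcw := h.norm hxp hcx hw
    have he' : e₁ * e₂ * e₃ ∈ E := mul_mem (mul_mem he₁ he₂) he₃
    have h1 : c * (j * w * j⁻¹) * c⁻¹ = j * (c * w * c⁻¹) * j⁻¹ := by
      calc c * (j * w * j⁻¹) * c⁻¹ = (c * j * c⁻¹) * (c * w * c⁻¹) * (c * j * c⁻¹)⁻¹ := by group
        _ = j * ((e₁ * e₂ * e₃) * (c * w * c⁻¹)) * (e₁ * e₂ * e₃)⁻¹ * j⁻¹ := by rw [hcj]; group
        _ = j * (c * w * c⁻¹) * j⁻¹ := by rw [heW he' _ hcw]; group
    have hcx' : c * x * c⁻¹ = x := by rw [hcx, mul_inv_cancel_right]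
    rw [← h1, hwx]
    calc c * (w * x) * c⁻¹ = (c * w * c⁻¹) * (c * x * c⁻¹) := by group
      _ = _ := by rw [hcx']
  have hjx : j * x = x * j := by
    rw [← hjC]
    exact mem_centralizer_singleton_iff.mp
      (⟨g₁, hg1⟩ * ⟨g₂, hg2⟩ * ⟨g₃, hg3⟩ : centralizer ({x} : Set G)).2
  rcases hneg a ha with e | e
  · exact mul_inv_eq_iff_eq_mul.mp e
  · exfalso
    have h1 := hstep a ha e
    have ha1 := h.norm hxp hcx ha
    have h2 := hstep _ ha1 h1
    have ha2 := h.norm hxp hcx ha1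
    set s := a * (c * a * c⁻¹) * (c * (c * a * c⁻¹) * c⁻¹) with hs
    have hxx := hρ.xx
    have hxc : ∀ w ∈ ws V x, x * w = w * x := fun w hw => hρ.comm x hρ.x_mem w hw
    have h3 : j * s * j⁻¹ = s * x := by
      calc j * s * j⁻¹ = (j * a * j⁻¹) * (j * (c * a * c⁻¹) * j⁻¹) *
            (j * (c * (c * a * c⁻¹) * c⁻¹) * j⁻¹) := by rw [hs]; group
        _ = (a * x) * ((c * a * c⁻¹) * x) * ((c * (c * a * c⁻¹) * c⁻¹) * x) := by rw [e, h1, h2]
        _ = a * (x * (c * a * c⁻¹)) * (x * (c * (c * a * c⁻¹) * c⁻¹)) * x := by group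
        _ = a * ((c * a * c⁻¹) * x) * ((c * (c * a * c⁻¹) * c⁻¹) * x) * x := by
            rw [hxc _ ha1, hxc _ ha2]
        _ = a * (c * a * c⁻¹) * (x * (c * (c * a * c⁻¹) * c⁻¹)) * (x * x) := by group
        _ = a * (c * a * c⁻¹) * ((c * (c * a * c⁻¹) * c⁻¹) * x) := by rw [hxc _ ha2, hxx, mul_one]
        _ = s * x := by rw [hs]; group
    have h4 : j * s * j⁻¹ = s := by
      have h5 := hρ.three_sum hO ha
      change s = 1 ∨ s = x at h5
      rcases h5 with e5 | e5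
      · rw [e5]; group
      · rw [e5, hjx, mul_inv_cancel_right]
    rw [h4] at h3
    exact hρ.x_ne (by simpa using h3)

/-- the product centralises `ws V x` for all `x ∈ E` -/
theorem tri_cent (hE : Pl V z E) (h : Ru V z) {u v x : G} (t : Two E u v) {g₁ g₂ g₃ : G}
    (T : Tri V E u v g₁ g₂ g₃) (hx : x ∈ E) (hx1 : x ≠ 1) {a : G} (ha : a ∈ ws V x) :
    g₁ * g₂ * g₃ * a = a * (g₁ * g₂ * g₃) := by
  by_cases hl : x = u ∨ x = v ∨ x = u * v
  · exact hE.tri_cent_line h t T hl ha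
  · push Not at hl
    refine hE.tri_cent_out h (x := x) ⟨hx, t.u_mem, t.v_mem, hx1, t.u_ne, t.v_ne, hl.1, hl.2.1, t.uv, ?_⟩ T ha
    intro e
    apply hl.2.2
    have : u * (x * u) = x := by
      rw [hE.comm h hx t.u_mem, ← mul_assoc, hE.sq h t.u_mem, one_mul]
    rw [← e, this]

/-- modulo `E`, the product is the same for lines through a common point -/
theorem tri_eq_mod (hE : Pl V z E) (h : Ru V z) {u v w : G} (hi : Ind E u v w) {g₁ g₂ g₃ k₁ k₂ k₃ : G}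
    (T : Tri V E u v g₁ g₂ g₃) (K : Tri V E u w k₁ k₂ k₃) :
    ∃ e ∈ E, k₁ * k₂ * k₃ = g₁ * g₂ * g₃ * e := by
  have t := hi.two
  have tw : Two E u w := ⟨hi.u_mem, hi.w_mem, hi.u_ne, hi.w_ne, hi.uw⟩
  have hup := hE.pt h t.u_mem t.u_ne
  obtain ⟨ρ, hρ⟩ := h.loc_pt hup
  obtain ⟨c, hcu, hc3, hcv, hcw, hcE⟩ := hE.exists_rot h hi
  have hcu' : c * u * c⁻¹ = u := by rw [hcu, mul_inv_cancel_right]
  have hcuv : c * (u * v) * c⁻¹ = u * w := by
    calc c * (u * v) * c⁻¹ = (c * u * c⁻¹) * (c * v * c⁻¹) := by group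
      _ = u * w := by rw [hcu', hcv]
  set j : G := g₁ * g₂ * g₃ with hj
  have hjc : ∀ x ∈ E, x ≠ 1 → ∀ a ∈ ws V x, j * a = a * j := fun x hx hx1 a ha => hE.tri_cent h t T hx hx1 ha
  -- `c j c⁻¹` agrees with the other product modulo `E`
  have h1 : Fl V E u w (c * g₁ * c⁻¹) := by
    have := T.f1.conj hcE
    rwa [hcu', hcv] at this
  have h2 : Fl V E w u (c * g₂ * c⁻¹) := by
    have := T.f2.conj hcE
    rwa [hcu', hcv] at this
  have h3 : Fl V E (u * w) u (c * g₃ * c⁻¹) := by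
    have := T.f3.conj hcE
    rwa [hcu', hcuv] at this
  obtain ⟨e₁, he₁, q1⟩ := hE.fl_eq h tw h1 K.f1
  obtain ⟨e₂, he₂, q2⟩ := hE.fl_eq h tw.swap h2 K.f2
  obtain ⟨e₃, he₃, q3⟩ := hE.fl_eq h (hE.two_mul h tw).swap h3 K.f3
  have hcomm2 : ∀ {e : G}, e ∈ E → (c * g₂ * c⁻¹) * e = e * (c * g₂ * c⁻¹) := fun he =>
    hE.fl_comm_E h tw.swap h2 he
  have hcomm3 : ∀ {e : G}, e ∈ E → (c * g₃ * c⁻¹) * e = e * (c * g₃ * c⁻¹) := fun he =>
    hE.fl_comm_E h (hE.two_mul h tw).swap h3 he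
  have hkj : k₁ * k₂ * k₃ = c * j * c⁻¹ * (e₁ * e₂ * e₃) := by
    rw [q1, q2, q3]
    calc c * g₁ * c⁻¹ * e₁ * (c * g₂ * c⁻¹ * e₂) * (c * g₃ * c⁻¹ * e₃) =
        c * g₁ * c⁻¹ * (e₁ * (c * g₂ * c⁻¹)) * (e₂ * (c * g₃ * c⁻¹)) * e₃ := by group
      _ = c * g₁ * c⁻¹ * ((c * g₂ * c⁻¹) * e₁) * ((c * g₃ * c⁻¹) * e₂) * e₃ := by
          rw [← hcomm2 he₁, ← hcomm3 he₂]
      _ = c * g₁ * c⁻¹ * (c * g₂ * c⁻¹) * (e₁ * (c * g₃ * c⁻¹)) * e₂ * e₃ := by group
      _ = c * g₁ * c⁻¹ * (c * g₂ * c⁻¹) * ((c * g₃ * c⁻¹) * e₁) * e₂ * e₃ := by rw [← hcomm3 he₁]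
      _ = c * j * c⁻¹ * (e₁ * e₂ * e₃) := by rw [hj]; group
  -- `c j c⁻¹ = t j` with `t ∈ E`
  have hw := h.cent_three hup (c := j) (hjc u t.u_mem t.u_ne) hcu hc3
  set s : G := c * j * c⁻¹ * j⁻¹ with hs
  have hsW : s ∈ ws V u := by
    have : s = (j * c * j⁻¹ * c⁻¹)⁻¹ := by rw [hs]; group
    rw [this]; exact inv_mem hw
  -- `s` centralises `ws V x` for all `x ∈ E`
  have hsc : ∀ x ∈ E, x ≠ 1 → ∀ a ∈ ws V x, s * a = a * s := by
    intro x hx hx1 a ha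
    have h4 : (c * j * c⁻¹) * a = a * (c * j * c⁻¹) := by
      have h5 : (k₁ * k₂ * k₃) * a = a * (k₁ * k₂ * k₃) := hE.tri_cent h tw K hx hx1 ha
      have h6 : (e₁ * e₂ * e₃) * a = a * (e₁ * e₂ * e₃) :=
        (hE.ws_comm h hx hx1 ha (mul_mem (mul_mem he₁ he₂) he₃)).symm
      have h7 : c * j * c⁻¹ = (k₁ * k₂ * k₃) * (e₁ * e₂ * e₃)⁻¹ := by rw [hkj]; group
      rw [h7]
      have c5 : Commute (k₁ * k₂ * k₃) a := h5
      have c6 : Commute (e₁ * e₂ * e₃) a := h6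
      exact (c5.mul_left c6.inv_left)
    have h5 := hjc x hx hx1 a ha
    have c4 : Commute (c * j * c⁻¹) a := h4
    have c5 : Commute j a := h5
    exact c4.mul_left c5.inv_left
  have hskq : ∀ x ∈ E, x ≠ 1 → s ∈ kq V x := by
    intro x hx hx1
    have hxp := hE.pt h hx hx1
    obtain ⟨ρx, hρx⟩ := h.loc_pt hxp
    have hsC : s ∈ centralizer ({x} : Set G) :=
      mem_centralizer_singleton_iff.mpr (hsc x hx hx1 x (h.self_mem hxp))
    refine (mem_kq_iff hρx (c := ⟨s, hsC⟩)).mpr ?_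
    rw [hρx.ker]
    intro a ha
    left
    change s * a * s⁻¹ = a
    rw [hsc x hx hx1 a ha, mul_inv_cancel_right]
  have hsE : s ∈ E := hE.bb_inf h hi ⟨hsW, hskq v hi.v_mem hi.v_ne⟩ ⟨hsW, hskq w hi.w_mem hi.w_ne⟩
  have hjs : j * s = s * j := hjc u t.u_mem t.u_ne s hsW
  refine ⟨s * (e₁ * e₂ * e₃), mul_mem hsE (mul_mem (mul_mem he₁ he₂) he₃), ?_⟩
  rw [hkj]
  calc c * j * c⁻¹ * (e₁ * e₂ * e₃) = (s * j) * (e₁ * e₂ * e₃) := by rw [hs]; group
    _ = j * (s * (e₁ * e₂ * e₃)) := by rw [← hjs]; group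

end Pl

end Cfsg.Agent.Omega.RuShape.Base

end

section


/-!
# The Ru configuration: `L_x` is transitive on `W_x - ⟨x⟩`, `C_G(⟨L_x, L_y⟩) = 1`

helper881's text #12858, (2.3).

* `Pl.exists_ll_trv`: the transvections with centre `p` of a plane are induced by elements of `L_p`;
* `Ru.ll_even`: `L_x` covers `A₅`; `Ru.ll_trans`: `L_x` is transitive on `W_x - ⟨x⟩`;
* `Ru.ll_inf`: `C_G(⟨L_x, L_y⟩) = 1` for collinear points `x`, `y`.
-/

set_option autoImplicit false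
set_option linter.dupNamespace false
set_option linter.unusedSectionVars false

namespace Cfsg.Agent.Omega.RuShape.Base

open Subgroup Cfsg Cfsg.Agent.ZN Cfsg.Agent.MinSimple.Geo Cfsg.Agent.MinSimple.OddBase
open Cfsg.Agent.OddCyclic Cfsg.Agent.OddCyclic.GamPerm Cfsg.Agent.OddCyclic.GamMod Cfsg.Agent.OddCyclic.GamLoc
open Cfsg.Agent.OddCyclic.GamBase (cc cc_surj cg_conj loc_conj ws_cj' lines_cj')
open Cfsg.Agent.ZN.Block (conj_mem_of_normalizer conj_mem_of_normalizer' le_normalizer_of_forall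
  mem_normalizer_of)

universe u

variable {G : Type u} [Group G]

theorem s5_even : ∀ g : S5, Equiv.Perm.sign g = 1 → ∃ a : S5, (a = 1 ∨ O3 a) ∧ (a⁻¹ * g = 1 ∨ O3 (a⁻¹ * g)) := by
  decide +kernel

namespace Pl

variable {V : Subgroup G} {z : G} [Finite G] {E : Subgroup G}

/-- the transvections with centre `p` of a plane are induced by elements of `L_p ∩ K_p` -/
theorem exists_ll_trv (hE : Pl V z E) (h : Ru V z) {p u w : G} (hi : Ind E p u w) :
    ∃ l ∈ ll V p, l ∈ kq V p ∧ l * u * l⁻¹ = u * p ∧ l * w * l⁻¹ = w := by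
  have hp := hE.pt h hi.u_mem hi.u_ne
  obtain ⟨ρ, hρ⟩ := h.loc_pt hp
  have hle := hE.le_ws h hi.u_mem hi.u_ne
  have hi' := hE.ind_rot h hi
  obtain ⟨c, hcp, hc3, hcu, hcw, _⟩ := hE.exists_rot h hi
  obtain ⟨k, hk, hku, hkw⟩ := h.exists_hom hp hρ (hle hi.v_mem) (hle hi.w_mem) hi.v_ne hi.uv.symm hi.w_ne
    hi.uw.symm hi.vw hi'.uvw (e := p) (f := p) (Or.inr rfl) (Or.inr rfl)
  have hkp : (k : G) * p = p * k := mem_centralizer_singleton_iff.mp k.2
  have hkK : (k : G) ∈ kq V p := (mem_kq_iff hρ).mpr hk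
  have hpp := h.xx hp
  have comm : ∀ {a b : G}, a ∈ E → b ∈ E → a * b = b * a := fun ha hb => hE.comm h ha hb
  have hku2 : (k : G)⁻¹ * u * k = u * p := by
    calc (k : G)⁻¹ * u * k = (k : G)⁻¹ * (u * p * p) * k := by rw [mul_assoc u, hpp, mul_one]
      _ = (k : G)⁻¹ * ((k : G) * u * (k : G)⁻¹ * p) * k := by rw [hku]
      _ = u * ((k : G)⁻¹ * (p * k)) := by group
      _ = u * p := by rw [← hkp]; group
  have hkw2 : (k : G)⁻¹ * w * k = w * p := by
    calc (k : G)⁻¹ * w * k = (k : G)⁻¹ * (w * p * p) * k := by rw [mul_assoc w, hpp, mul_one]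
      _ = (k : G)⁻¹ * ((k : G) * w * (k : G)⁻¹ * p) * k := by rw [hkw]
      _ = w * ((k : G)⁻¹ * (p * k)) := by group
      _ = w * p := by rw [← hkp]; group
  have hcw2 : c⁻¹ * w * c = u := by rw [← hcu]; group
  have hcu2 : c⁻¹ * u * c = w * u := by
    have e1 : u = w * (u * w) := by
      rw [comm hi.v_mem hi.w_mem, ← mul_assoc, hE.sq h hi.w_mem, one_mul]
    calc c⁻¹ * u * c = c⁻¹ * (w * (u * w)) * c := by rw [← e1]
      _ = c⁻¹ * (c * u * c⁻¹ * (c * w * c⁻¹)) * c := by rw [hcu, hcw]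
      _ = u * w := by group
      _ = w * u := comm hi.v_mem hi.w_mem
  have hcp2 : c * p * c⁻¹ = p := by rw [hcp, mul_inv_cancel_right]
  have hkp2 : (k : G) * p * (k : G)⁻¹ = p := by rw [hkp, mul_inv_cancel_right]
  have hkp3 : (k : G)⁻¹ * p * (k : G) = p := by rw [mul_assoc, ← hkp, inv_mul_cancel_left]
  refine ⟨k * c * (k : G)⁻¹ * c⁻¹, ?_, ?_, ?_, ?_⟩
  · have hcL := h.three_mem_ll hp hcp hc3
    exact mul_mem (h.ll_conj hkp hcL) (inv_mem hcL)
  · have e : (k : G) * c * (k : G)⁻¹ * c⁻¹ = k * (c * (k : G)⁻¹ * c⁻¹) := by group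
    rw [e]
    exact mul_mem hkK (h.kq_conj hp hcp (inv_mem hkK))
  · calc (k : G) * c * (k : G)⁻¹ * c⁻¹ * u * ((k : G) * c * (k : G)⁻¹ * c⁻¹)⁻¹ =
        (k : G) * (c * ((k : G)⁻¹ * (c⁻¹ * u * c) * k) * c⁻¹) * (k : G)⁻¹ := by group
      _ = (k : G) * (c * (((k : G)⁻¹ * w * k) * ((k : G)⁻¹ * u * k)) * c⁻¹) * (k : G)⁻¹ := by
          rw [hcu2]; group
      _ = (k : G) * ((c * w * c⁻¹) * (c * u * c⁻¹)) * (k : G)⁻¹ := by
          rw [hkw2, hku2]
          have e1 : w * p * (u * p) = w * u := by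
            calc w * p * (u * p) = w * (p * u) * p := by group
              _ = w * u * (p * p) := by rw [comm hi.u_mem hi.v_mem]; group
              _ = w * u := by rw [hpp, mul_one]
          rw [e1]; group
      _ = (k : G) * u * (k : G)⁻¹ := by
          rw [hcw, hcu]
          have e1 : u * w * w = u := by rw [mul_assoc, hE.sq h hi.w_mem, mul_one]
          rw [e1]
      _ = u * p := hku
  · calc (k : G) * c * (k : G)⁻¹ * c⁻¹ * w * ((k : G) * c * (k : G)⁻¹ * c⁻¹)⁻¹ =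
        (k : G) * (c * ((k : G)⁻¹ * (c⁻¹ * w * c) * k) * c⁻¹) * (k : G)⁻¹ := by group
      _ = (k : G) * (c * (u * p) * c⁻¹) * (k : G)⁻¹ := by rw [hcw2, hku2]
      _ = (k : G) * ((c * u * c⁻¹) * (c * p * c⁻¹)) * (k : G)⁻¹ := by group
      _ = ((k : G) * w * (k : G)⁻¹) * ((k : G) * p * (k : G)⁻¹) := by rw [hcu, hcp2]; group
      _ = w := by rw [hkw, hkp2, mul_assoc, hpp, mul_one]

end Pl

theorem cg_symm {x a b : G} (hx : x * x = 1) (h : Cg x a b) : Cg x b a := by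
  rcases h with e | e
  · exact Or.inl e.symm
  · right; rw [e, mul_assoc, hx, mul_one]

theorem cg_trans {x a b c : G} (hx : x * x = 1) (h1 : Cg x a b) (h2 : Cg x b c) : Cg x a c := by
  rcases h1 with e | e
  · rw [e]; exact h2
  · rcases h2 with e2 | e2
    · right; rw [e, e2]
    · left; rw [e, e2, mul_assoc, hx, mul_one]

namespace Ru

variable {V : Subgroup G} {z : G} [Finite G]

/-- `L_x` covers `A₅` -/
theorem ll_even (h : Ru V z) {x : G} (hx : Pt z x) {ρ : centralizer ({x} : Set G) →* S5}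
    (hρ : Loc (ws V x) x ρ) {g : S5} (hg : Equiv.Perm.sign g = 1) :
    ∃ q : centralizer ({x} : Set G), (q : G) ∈ ll V x ∧ ρ q = g := by
  have h1 : ∀ a : S5, (a = 1 ∨ O3 a) → ∃ q : centralizer ({x} : Set G), (q : G) ∈ ll V x ∧ ρ q = a := by
    rintro a (rfl | ha)
    · exact ⟨1, one_mem _, map_one _⟩
    · obtain ⟨q, hq, hqO⟩ := h.exists_o3_ll hx hρ
      obtain ⟨s, hs, rfl⟩ := s5_o3_conj hqO ha
      obtain ⟨d, rfl⟩ := hρ.even s hs
      exact ⟨d * q * d⁻¹, h.ll_conj (mem_centralizer_singleton_iff.mp d.2) hq, by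
        rw [map_mul, map_mul, map_inv]⟩
  obtain ⟨a, ha, hb⟩ := s5_even g hg
  obtain ⟨q, hq, hqa⟩ := h1 a ha
  obtain ⟨r, hr, hrb⟩ := h1 _ hb
  exact ⟨q * r, mul_mem hq hr, by rw [map_mul, hqa, hrb]; group⟩

/-- `L_x` is transitive on `W_x - ⟨x⟩` -/
theorem ll_trans (h : Ru V z) {x : G} (hx : Pt z x) {u v : G} (hu : u ∈ ws V x) (hv : v ∈ ws V x)
    (hu1 : u ≠ 1) (hux : u ≠ x) (hv1 : v ≠ 1) (hvx : v ≠ x) :
    ∃ l ∈ ll V x, l * u * l⁻¹ = v := by
  obtain ⟨ρ, hρ⟩ := h.loc_pt hx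
  obtain ⟨c, hc, hcu⟩ := hρ.trans hu hv hu1 hux hv1 hvx
  obtain ⟨q, hq, hqc⟩ := h.ll_even hx hρ hc
  have h1 := cg_trans hρ.xx (hρ.congr hqc hu) hcu
  rcases h1 with e | e
  · exact ⟨q, hq, e⟩
  · have hE := h.pl hx hv hv1 hvx
    have t : Two (ws V x ⊓ ws V v) x v := ⟨⟨h.self_mem hx, h.mem_symm hx hv hv1⟩,
      ⟨hv, h.self_mem (h.pt hx hv hv1)⟩, h.ne_one hx, hv1, fun e => hvx e.symm⟩
    obtain ⟨w, hi⟩ := hE.exists_third h t.u_mem t.v_mem t.u_ne t.v_ne t.uv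
    obtain ⟨l, hl, _, hl1, _⟩ := hE.exists_ll_trv h hi
    refine ⟨l * q, mul_mem hl hq, ?_⟩
    have hlx : l * x * l⁻¹ = x := by
      rw [mem_centralizer_singleton_iff.mp (h.ll_le hx hl), mul_inv_cancel_right]
    calc l * q * u * (l * q)⁻¹ = l * (q * u * (q : G)⁻¹) * l⁻¹ := by group
      _ = l * (v * x) * l⁻¹ := by rw [e]
      _ = (l * v * l⁻¹) * (l * x * l⁻¹) := by group
      _ = v := by rw [hl1, hlx, mul_assoc, hρ.xx, mul_one]

/-- an element which centralises all `W_y`, `y` in the orbit of `q`, centralises `L_x` -/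
theorem ll_gen (h : Ru V z) {x q : G} (hx : Pt z x) (hq : q ∈ ws V x) (hq1 : q ≠ 1) (hqx : q ≠ x) {c : G}
    (hc : ∀ l ∈ ll V x, ∀ w ∈ ws V (l * q * l⁻¹), c * w = w * c) {l : G} (hl : l ∈ ll V x) :
    c * l = l * c := by
  have h1 : ll V x ≤ centralizer ({c} : Set G) := by
    conv_lhs => unfold ll
    rw [closure_le]
    rintro g ⟨y, hy, hy1, hyx, hg⟩
    obtain ⟨l, hl, rfl⟩ := h.ll_trans hx hq hy hq1 hqx hy1 hyx
    exact mem_centralizer_singleton_iff.mpr (hc l hl g hg).symm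
  exact (mem_centralizer_singleton_iff.mp (h1 hl)).symm

theorem ll_cj' (V : Subgroup G) (g x : G) : ll (cj g V) x = ll V x := by
  unfold ll
  simp only [ws_cj']

/-- the centraliser of `L_x` and `L_y` is normalised by `C_G(x)` -/
theorem norm_cent (h : Ru V z) {x y : G} (hx : Pt z x) (hy : y ∈ ws V x) (hy1 : y ≠ 1) (hyx : y ≠ x)
    {g : G} (hg : g ∈ centralizer ({x} : Set G)) :
    g ∈ normalizer (centralizer ((ll V x ⊔ ll V y : Subgroup G) : Set G) : Set G) := by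
  have hgx := mem_centralizer_singleton_iff.mp hg
  have hgy : g * y * g⁻¹ ∈ ws V x := h.norm hx hgx hy
  obtain ⟨l, hl, hly⟩ := h.ll_trans hx hy hgy hy1 hyx (conj_ne_one hy1) (fun e => hyx (by
    have e2 : y = g⁻¹ * (g * y * g⁻¹) * g := by group
    rw [e2, e, mul_assoc, ← hgx, inv_mul_cancel_left]))
  have hlx : l * x = x * l := mem_centralizer_singleton_iff.mp (h.ll_le hx hl)
  set c := l⁻¹ * g with hc
  have e0 : g = l * c := by rw [hc, mul_inv_cancel_left]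
  have hcx : c * x * c⁻¹ = x := by
    have e1 : l⁻¹ * x * l = x := by rw [mul_assoc, ← hlx, inv_mul_cancel_left]
    calc c * x * c⁻¹ = l⁻¹ * (g * x * g⁻¹) * l := by rw [hc]; group
      _ = x := by rw [hgx, mul_inv_cancel_right, e1]
  have hcy : c * y * c⁻¹ = y := by
    calc c * y * c⁻¹ = l⁻¹ * (g * y * g⁻¹) * l := by rw [hc]; group
      _ = l⁻¹ * (l * y * l⁻¹) * l := by rw [hly]
      _ = y := by group
  rw [e0]
  refine mul_mem ?_ ?_
  · -- `l` centralises the centraliser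
    refine mem_normalizer_of ?_ ?_
    · intro d hd
      have h1 := mem_centralizer_iff.mp hd l (mem_sup_left hl)
      have e1 : l * d * l⁻¹ = d := by rw [h1, mul_inv_cancel_right]
      rw [e1]; exact hd
    · intro d hd
      have h1 := mem_centralizer_iff.mp hd l (mem_sup_left hl)
      have e1 : l⁻¹ * d * l = d := by rw [mul_assoc, ← h1, inv_mul_cancel_left]
      rw [e1]; exact hd
  · have h1 : c ∈ normalizer ((ll V x ⊔ ll V y : Subgroup G) : Set G) := by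
      rw [mem_normalizer_iff_cj]
      have e1 : cj c (ll V x ⊔ ll V y) = cj c (ll V x) ⊔ cj c (ll V y) := Subgroup.map_sup _ _ _
      rw [e1, cj_ll, cj_ll, hcx, hcy]
    refine mem_normalizer_of ?_ ?_
    · intro d hd
      rw [mem_centralizer_iff] at hd ⊢
      intro a ha
      have h2 := hd (c⁻¹ * a * c) (conj_mem_of_normalizer' le_rfl h1 ha)
      calc a * (c * d * c⁻¹) = c * (c⁻¹ * a * c * d) * c⁻¹ := by group
        _ = c * (d * (c⁻¹ * a * c)) * c⁻¹ := by rw [h2]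
        _ = c * d * c⁻¹ * a := by group
    · intro d hd
      rw [mem_centralizer_iff] at hd ⊢
      intro a ha
      have h2 := hd (c * a * c⁻¹) (conj_mem_of_normalizer le_rfl h1 ha)
      calc a * (c⁻¹ * d * c) = c⁻¹ * (c * a * c⁻¹ * d) * c := by group
        _ = c⁻¹ * (d * (c * a * c⁻¹)) * c := by rw [h2]
        _ = c⁻¹ * d * c * a := by group

/-- (2.3) for points of `V` -/
theorem ll_inf_aux (h : Ru V z) {v : G} (hv : v ∈ V) (hv1 : v ≠ 1) (hvz : v ≠ z) :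
    centralizer ((ll V z ⊔ ll V v : Subgroup G) : Set G) = ⊥ := by
  have hzp := Pt.refl z
  have hvW := h.V_le_ws hv
  have hvp := h.pt hzp hvW hv1
  have hzW := h.mem_symm hzp hvW hv1
  set D := centralizer ((ll V z ⊔ ll V v : Subgroup G) : Set G) with hD
  have hz : centralizer ({z} : Set G) ≤ normalizer (D : Set G) := fun g hg =>
    h.norm_cent hzp hvW hv1 hvz hg
  have hv' : centralizer ({v} : Set G) ≤ normalizer (D : Set G) := fun g hg => by
    have := h.norm_cent hvp hzW h.z_ne (fun e => hvz e.symm) hg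
    rwa [sup_comm] at this
  have h2 : IsPGroup 2 D := by
    refine (h.isPGroup_cw hzp).to_le (centralizer_le ?_)
    exact ((h.ws_le_ll hzp).trans le_sup_left : ws V z ≤ ll V z ⊔ ll V v)
  refine h.core D h2 ?_ hz
  intro g hg
  have hgz : g * z * g⁻¹ ∈ V := (mem_normalizer_iff.mp hg z).mp h.z_mem
  have hvv := h.sq v hv
  have hzz := h.sq z h.z_mem
  have hzv : z * v = v * z := h.comm hzp (h.self_mem hzp) hvW
  obtain ⟨ρ, hρ⟩ := h.loc_pt hzp
  obtain ⟨k, _, hk⟩ := h.exists_neg hzp hρ hvW hv1 hvz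
  obtain ⟨ρ', hρ'⟩ := h.loc_pt hvp
  obtain ⟨k', _, hk'⟩ := h.exists_neg hvp hρ' hzW h.z_ne (fun e => hvz e.symm)
  have hcent : ∀ m : G, m * z * m⁻¹ = g * z * g⁻¹ → m ∈ normalizer (D : Set G) → g ∈ normalizer (D : Set G) := by
    intro m hm hm'
    have h3 : m⁻¹ * g ∈ centralizer ({z} : Set G) := by
      rw [mem_centralizer_singleton_iff, ← mul_inv_eq_iff_eq_mul]
      calc m⁻¹ * g * z * (m⁻¹ * g)⁻¹ = m⁻¹ * (g * z * g⁻¹) * m := by group
        _ = m⁻¹ * (m * z * m⁻¹) * m := by rw [hm]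
        _ = z := by group
    have e : g = m * (m⁻¹ * g) := by group
    rw [e]; exact mul_mem hm' (hz h3)
  rcases GamBase.mem_four h.card_V h.z_mem hv hzz hvv h.z_ne hv1 hvz.symm hgz with e | e | e | e
  · exact absurd e (conj_ne_one h.z_ne)
  · exact hcent 1 (by rw [e]; group) (one_mem _)
  · refine hcent (k * k') ?_ (mul_mem (hz k.2) (hv' k'.2))
    rw [e]
    have hkz : (k : G) * z * (k : G)⁻¹ = z := by
      rw [mem_centralizer_singleton_iff.mp k.2, mul_inv_cancel_right]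
    calc (k : G) * k' * z * ((k : G) * k')⁻¹ = (k : G) * ((k' : G) * z * (k' : G)⁻¹) * (k : G)⁻¹ := by group
      _ = ((k : G) * z * (k : G)⁻¹) * ((k : G) * v * (k : G)⁻¹) := by rw [hk']; group
      _ = v := by rw [hkz, hk, ← mul_assoc, hzv, mul_assoc, hzz, mul_one]
  · exact hcent k' (by rw [e, hk']) (hv' k'.2)

/-- (2.3): `C_G(⟨L_x, L_y⟩) = 1` -/
theorem ll_inf (h : Ru V z) {x y : G} (hx : Pt z x) (hy : y ∈ ws V x) (hy1 : y ≠ 1) (hyx : y ≠ x) {c : G}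
    (h1 : ∀ l ∈ ll V x, c * l = l * c) (h2 : ∀ l ∈ ll V y, c * l = l * c) : c = 1 := by
  obtain ⟨v, hv, hv1, hvz⟩ := h.exists_v
  obtain ⟨g, rfl, rfl⟩ := h.pair_trans (Pt.refl z) (h.V_le_ws hv) hv1 hvz hx hy hy1 hyx
  have h3 := (h.conj g).ll_inf_aux (conj_mem_cj hv) hy1 hyx
  rw [ll_cj', ll_cj'] at h3
  have h4 : c ∈ centralizer ((ll V (g * z * g⁻¹) ⊔ ll V (g * v * g⁻¹) : Subgroup G) : Set G) := by
    rw [Subgroup.sup_eq_closure, centralizer_closure, mem_centralizer_iff]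
    rintro a (ha | ha)
    · exact (h1 a ha).symm
    · exact (h2 a ha).symm
  rwa [h3, mem_bot] at h4

end Ru

end Cfsg.Agent.Omega.RuShape.Base

end

section


/-!
# The Ru configuration: the commutator form of `Y_U` and `C_G(U)`

helper881's text #12858, section 3 (first lines) and (3.1).

* `Pl.rho_ne`: the three involutions `u_n` of `C_G(q)/K_q` (`n` a line of the plane on `q`) are distinct;
* `Pl.fl_tri`: `[g, g'] = p q w` for flag elements `g ∈ W_p ∩ K_w`, `g' ∈ W_q ∩ K_w`, `p, q, w` independent;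
* `Pl.exists_cent`: `C_G(E) = Y_E C_G(W_p)`.
-/

set_option autoImplicit false
set_option linter.dupNamespace false
set_option linter.unusedSectionVars false

namespace Cfsg.Agent.Omega.RuShape.Base

open Subgroup Cfsg Cfsg.Agent.ZN Cfsg.Agent.MinSimple.Geo Cfsg.Agent.MinSimple.OddBase
open Cfsg.Agent.OddCyclic Cfsg.Agent.OddCyclic.GamPerm Cfsg.Agent.OddCyclic.GamMod Cfsg.Agent.OddCyclic.GamLoc
open Cfsg.Agent.OddCyclic.GamBase (cc cc_surj cg_conj loc_conj ws_cj' lines_cj')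
open Cfsg.Agent.ZN.Block (conj_mem_of_normalizer conj_mem_of_normalizer' le_normalizer_of_forall
  mem_normalizer_of)

universe u

variable {G : Type u} [Group G]

namespace Pl

variable {V : Subgroup G} {z : G} [Finite G] {E : Subgroup G}

/-- the elements of a plane -/
theorem mem_eight (hE : Pl V z E) (h : Ru V z) {p q w t : G} (hi : Ind E p q w) (ht : t ∈ E) :
    (t = 1 ∨ t = q ∨ t = w ∨ t = q * w) ∨ (p * t = 1 ∨ p * t = q ∨ p * t = w ∨ p * t = q * w) := by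
  have hq := hE.pt h hi.v_mem hi.v_ne
  have hle := hE.le_ws h hi.v_mem hi.v_ne
  obtain ⟨L, hL, hwL⟩ := h.exists_line hq (hle hi.w_mem) hi.w_ne hi.vw.symm
  have hqL : q ∈ L := hL.2
  have hcard : Nat.card L = 4 := by
    obtain ⟨⟨g, rfl⟩, _⟩ := hL
    rw [card_cj, h.card_V]
  have hqq := hE.sq h hi.v_mem
  have hww := hE.sq h hi.w_mem
  have four : ∀ s ∈ L, s = 1 ∨ s = q ∨ s = w ∨ s = q * w := fun s hs =>
    GamBase.mem_four hcard hqL hwL hqq hww hi.v_ne hi.w_ne hi.vw hs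
  have hLE : L ≤ E := by
    intro s hs
    rcases four s hs with e | e | e | e
    · rw [e]; exact one_mem _
    · rw [e]; exact hi.v_mem
    · rw [e]; exact hi.w_mem
    · rw [e]; exact mul_mem hi.v_mem hi.w_mem
  have hpL : p ∉ L := by
    intro hp
    rcases four p hp with e | e | e | e
    · exact hi.u_ne e
    · exact hi.uv e
    · exact hi.uw e
    · apply hi.uvw
      rw [e, hE.comm h hi.v_mem hi.w_mem, mul_assoc, hqq, mul_one]
  by_cases htL : t ∈ L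
  · exact Or.inl (four t htL)
  · exact Or.inr (four _ (mul_mem_of_two hLE (by rw [hE.card h, hcard]) (by rw [hcard]; norm_num)
      hi.u_mem ht hpL htL))

/-- elements of `ws V p` as elements of `C_G(q)` -/
def elq (_ : Pl V z E) (_ : Ru V z) {q g : G} (hq : q ∈ E) (hg : ∀ e ∈ E, g * e = e * g) :
    centralizer ({q} : Set G) := ⟨g, mem_centralizer_singleton_iff.mpr (hg q hq)⟩

theorem k4_elq (hE : Pl V z E) (h : Ru V z) {q g : G} (hq : q ∈ E) (hg : ∀ e ∈ E, g * e = e * g)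
    {ρ : centralizer ({q} : Set G) →* S5} (hρ : Loc (ws V q) q ρ) {i : Fin 5} (hi : E = hρ.pg i) :
    K4 i (ρ (hE.elq h hq hg)) :=
  hρ.k4_of_pg fun w hw => Or.inl (by
    change g * w * g⁻¹ = w
    rw [hg w (by rw [hi]; exact hw), mul_inv_cancel_right])

/-- the images of `W_p` and `W_w` in `C_G(q)/K_q` are different -/
theorem rho_ne (hE : Pl V z E) (h : Ru V z) {p q w g k : G} (hi : Ind E q p w) (hg : g ∈ ws V p)
    (hgK : g ∉ kq V q) (hk : k ∈ ws V w) (hkK : k ∉ kq V q) {ρ : centralizer ({q} : Set G) →* S5}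
    (hρ : Loc (ws V q) q ρ) (hgE : ∀ e ∈ E, g * e = e * g) (hkE : ∀ e ∈ E, k * e = e * k) :
    ρ (hE.elq h hi.u_mem hgE) ≠ ρ (hE.elq h hi.u_mem hkE) := by
  have hqp := hE.pt h hi.u_mem hi.u_ne
  have hwp := hE.pt h hi.w_mem hi.w_ne
  obtain ⟨i, hEi⟩ := hE.exists_pg h hi.u_mem hi.u_ne hρ
  obtain ⟨c, hcq, hc3, hcp, hcw, hcE⟩ := hE.exists_rot h hi
  have hle := hE.le_ws h hi.u_mem hi.u_ne
  have hcC : c ∈ centralizer ({q} : Set G) := mem_centralizer_singleton_iff.mpr hcq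
  have hO : O3 (ρ ⟨c, hcC⟩) := o3_of_rot h hqp hρ (hle hi.v_mem) hcC hc3 hcp hi.vw (by
    rw [hE.comm h hi.v_mem hi.u_mem]; exact hi.uvw)
  have hci : ρ ⟨c, hcC⟩ i = i := by
    by_contra hne
    have h1 := hρ.conj_mem_pg (w := p) (i := i) (by rw [← hEi]; exact hi.v_mem) ⟨c, hcC⟩
    change c * p * c⁻¹ ∈ _ at h1
    rw [hcp] at h1
    rcases hρ.pg_inf hne h1 (by rw [← hEi]; exact hi.w_mem) with e | e
    · exact hi.w_ne e
    · exact hi.uw e.symm
  have hk4 := hE.k4_elq h hi.u_mem hgE hρ hEi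
  have hg1 : ρ (hE.elq h hi.u_mem hgE) ≠ 1 := fun e => hgK ((mem_kq_iff hρ (c := hE.elq h hi.u_mem hgE)).mpr e)
  -- `c g c⁻¹` and `k` have the same image
  have hcg : c * g * c⁻¹ ∈ ws V w := by rw [← hcp, ← cj_ws]; exact conj_mem_cj hg
  have hcgK : c * g * c⁻¹ ∉ kq V q := by
    intro e
    have h1 := conj_mem_cj (g := c⁻¹) e
    rw [cj_kq] at h1
    apply hgK
    have e1 : c⁻¹ * q * c⁻¹⁻¹ = q := by rw [inv_inv, mul_assoc, ← hcq, inv_mul_cancel_left]
    have e2 : c⁻¹ * (c * g * c⁻¹) * c⁻¹⁻¹ = g := by group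
    rwa [e1, e2] at h1
  have hc1 := hE.card_bb h hi.w_mem hi.u_mem hi.w_ne hi.u_ne hi.uw.symm
  obtain ⟨ρw, hρw⟩ := h.loc_pt hwp
  have hkm : k * (c * g * c⁻¹) ∈ bb V w q :=
    mul_mem_of_two (bb_le V _ _) (by rw [hρw.card, hc1]) (by rw [hc1]; norm_num) hk hcg
      (fun e => hkK e.2) (fun e => hcgK e.2)
  have hkm3 : ((hE.elq h hi.u_mem hkE * (⟨c, hcC⟩ * hE.elq h hi.u_mem hgE * ⟨c, hcC⟩⁻¹) :
      centralizer ({q} : Set G)) : G) ∈ kq V q := hkm.2
  have hkm2 : ρ (hE.elq h hi.u_mem hkE * (⟨c, hcC⟩ * hE.elq h hi.u_mem hgE * ⟨c, hcC⟩⁻¹)) = 1 :=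
    (mem_kq_iff hρ).mp hkm3
  rw [map_mul, map_mul, map_mul, map_inv] at hkm2
  intro e
  rw [← e] at hkm2
  set a := ρ (hE.elq h hi.u_mem hgE) with ha
  set y := ρ ⟨c, hcC⟩ with hy
  have haa : a * a = 1 := hk4.2.2
  have h1 : y * a * y⁻¹ = a := by
    have h2 : y * a * y⁻¹ = a⁻¹ := (inv_eq_of_mul_eq_one_right hkm2).symm
    rw [h2]; exact inv_eq_of_mul_eq_one_left haa
  have h2 := k4_rot i a hk4 hg1 y hci hO
  rw [h1, h1, haa, one_mul] at h2
  exact hg1 h2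

/-- one half of the computation of `[g, a]` -/
theorem half (hE : Pl V z E) (h : Ru V z) {p q w g a : G} (hi : Ind E p q w) (hg : g ∈ ws V p)
    (hgK : g ∉ kq V q) (ha : Fl V E q w a) : g * a * g⁻¹ * a = p * w ∨ g * a * g⁻¹ * a = p * q * w := by
  have hqp := hE.pt h hi.v_mem hi.v_ne
  have hwp := hE.pt h hi.w_mem hi.w_ne
  have hpp := hE.pt h hi.u_mem hi.u_ne
  obtain ⟨ρ, hρ⟩ := h.loc_pt hqp
  obtain ⟨i, hEi⟩ := hE.exists_pg h hi.v_mem hi.v_ne hρ
  have hle := hE.le_ws h hi.v_mem hi.v_ne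
  have haW : a ∈ ws V q := ha.mem.1
  have hgE : ∀ e ∈ E, g * e = e * g := fun e he => hE.ws_comm h hi.u_mem hi.u_ne hg he
  have haE : ∀ e ∈ E, a * e = e * a := fun e he => hE.ws_comm h hi.v_mem hi.v_ne haW he
  have hqq := h.xx hqp
  have haa := h.sq_ws hqp haW
  have hgg := h.sq_ws hpp hg
  have hinva : a⁻¹ = a := h.inv_ws hqp haW
  set t := g * a * g⁻¹ * a with ht
  have htE : t ∈ E := hE.comm_mem h hi.v_mem hi.v_ne hgE haW
  have hga : g * a * g⁻¹ = t * a := by rw [ht, mul_assoc _ a a, haa, mul_one]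
  -- `k ∈ W_w - K_q`
  obtain ⟨k, hk, hk1⟩ := h.exists_act hqp hρ (hle hi.w_mem) hi.w_ne hi.vw.symm
  have hkE : ∀ e ∈ E, k * e = e * k := fun e he => hE.ws_comm h hi.w_mem hi.w_ne hk he
  have hkK : k ∉ kq V q := fun e => hk1 ((mem_kq_iff hρ (c := h.el' hqp (hle hi.w_mem) hi.w_ne hk)).mp e)
  have hiq : Ind E q p w := hE.ind_swap h hi
  have hne := hE.rho_ne h hiq hg hgK hk hkK hρ hgE hkE
  have hg4 := hE.k4_elq h hi.v_mem hgE hρ hEi
  have hk4 := hE.k4_elq h hi.v_mem hkE hρ hEi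
  have hg1 : ρ (hE.elq h hi.v_mem hgE) ≠ 1 := fun e => hgK ((mem_kq_iff hρ (c := hE.elq h hi.v_mem hgE)).mpr e)
  have hgk4 : K4 i (ρ (hE.elq h hi.v_mem hgE * hE.elq h hi.v_mem hkE)) := by
    rw [map_mul]; exact K4_mul i _ hg4 _ hk4
  have hgk1 : ρ (hE.elq h hi.v_mem hgE * hE.elq h hi.v_mem hkE) ≠ 1 := by
    intro e
    rw [map_mul] at e
    apply hne
    rw [mul_eq_one_iff_eq_inv.mp e]
    exact inv_eq_of_mul_eq_one_left hk4.2.2
  have hcx : ∀ b ∈ ws V q, Cg q (g * b * g⁻¹) b → b ∈ E := by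
    intro b hb hc
    rw [hEi, ← hρ.cx_eq_pg hg4 hg1, hρ.mem_cx]
    exact ⟨hb, hc⟩
  have hcx2 : ∀ b ∈ ws V q, Cg q (g * k * b * (g * k)⁻¹) b → b ∈ E := by
    intro b hb hc
    rw [hEi, ← hρ.cx_eq_pg hgk4 hgk1, hρ.mem_cx]
    exact ⟨hb, hc⟩
  have hqa : a * q = q * a := haE q hi.v_mem
  have h1 : t ≠ 1 := fun e => ha.notMem (hcx a haW (Or.inl (by rw [hga, e, one_mul])))
  have h2 : t ≠ q := fun e => ha.notMem (hcx a haW (Or.inr (by rw [hga, e, hqa])))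
  -- `k a k⁻¹ = a w`
  have hka : k * a * k⁻¹ = a * w := by
    have e1 := hE.bb_act h hi.w_mem hi.v_mem hi.w_ne hi.v_ne hi.vw.symm hk (fun e => hkK e.2) ha.mem ha.notMem
    have e2 : a * k = k * w * a := mul_inv_eq_iff_eq_mul.mp e1
    have e3 := h.inv_ws hwp hk
    have hkk := h.sq_ws hwp hk
    calc k * a * k⁻¹ = k * (a * k) := by rw [e3]; group
      _ = (k * k) * (w * a) := by rw [e2]; group
      _ = a * w := by rw [hkk, one_mul, haE w hi.w_mem]
  have hgw : g * w * g⁻¹ = w := by rw [hgE w hi.w_mem, mul_inv_cancel_right]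
  have hgka : g * k * a * (g * k)⁻¹ = t * a * w := by
    calc g * k * a * (g * k)⁻¹ = g * (k * a * k⁻¹) * g⁻¹ := by group
      _ = (g * a * g⁻¹) * (g * w * g⁻¹) := by rw [hka]; group
      _ = t * a * w := by rw [hga, hgw]
  have hww := hE.sq h hi.w_mem
  have haw : a * w = w * a := haE w hi.w_mem
  have h3 : t ≠ w := fun e => ha.notMem (hcx2 a haW (Or.inl (by
    rw [hgka, e, mul_assoc, haw, ← mul_assoc, hww, one_mul])))
  have h4 : t ≠ q * w := fun e => ha.notMem (hcx2 a haW (Or.inr (by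
    rw [hgka, e]
    calc q * w * a * w = q * (w * (a * w)) := by group
      _ = q * (w * w * a) := by rw [haw]; group
      _ = a * q := by rw [hww, one_mul, hqa])))
  -- `b ∈ W_q ∩ K_p`
  obtain ⟨b, hb⟩ := hE.exists_fl h hiq.two
  have hbW : b ∈ ws V q := hb.mem.1
  have hgb : g * b * g⁻¹ = b * p := by
    have e1 := hE.bb_act h hi.u_mem hi.v_mem hi.u_ne hi.v_ne hi.uv hg (fun e => hgK e.2) hb.mem hb.notMem
    have e2 : b * g = g * p * b := mul_inv_eq_iff_eq_mul.mp e1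
    have e3 := h.inv_ws hpp hg
    have e4 : b * p = p * b := hE.ws_comm h hi.v_mem hi.v_ne hbW hi.u_mem
    calc g * b * g⁻¹ = g * (b * g) := by rw [e3]; group
      _ = (g * g) * (p * b) := by rw [e2]; group
      _ = b * p := by rw [hgg, one_mul, e4]
  have hab : ¬ a * b ∈ E := by
    intro e
    have e1 : b = a * (a * b) := by rw [← mul_assoc, haa, one_mul]
    have e2 : b ∈ bb V q w := by
      rw [e1]; exact mul_mem ha.mem (hE.le_bb h hi.v_mem hi.w_mem hi.v_ne hi.w_ne e)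
    exact hb.notMem (hE.bb_inf h hiq hb.mem e2)
  have hgab : g * (a * b) * g⁻¹ = t * p * (a * b) := by
    calc g * (a * b) * g⁻¹ = (g * a * g⁻¹) * (g * b * g⁻¹) := by group
      _ = t * (a * (b * p)) := by rw [hga, hgb]; group
      _ = t * (a * (p * b)) := by rw [hE.ws_comm h hi.v_mem hi.v_ne hbW hi.u_mem]
      _ = t * (a * p * b) := by group
      _ = t * p * (a * b) := by rw [haE p hi.u_mem]; group
  have hpp' := hE.sq h hi.u_mem
  have habW : a * b ∈ ws V q := mul_mem haW hbW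
  have h5 : t ≠ p := fun e => hab (hcx _ habW (Or.inl (by rw [hgab, e, hpp', one_mul])))
  have h6 : t ≠ p * q := fun e => hab (hcx _ habW (Or.inr (by
    have e1 : p * q * p = q := by
      rw [hE.comm h hi.u_mem hi.v_mem, mul_assoc, hpp', mul_one]
    rw [hgab, e, e1]
    exact h.comm hqp (h.self_mem hqp) habW)))
  rcases hE.mem_eight h hi htE with e | e
  · rcases e with e | e | e | e
    · exact absurd e h1
    · exact absurd e h2
    · exact absurd e h3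
    · exact absurd e h4
  · have key : ∀ {s : G}, p * t = s → t = p * s := fun e => hE.eq_mul h hi.u_mem e
    rcases e with e | e | e | e
    · exact absurd (by rw [key e, mul_one]) h5
    · exact absurd (key e) h6
    · exact Or.inl (key e)
    · right; rw [key e, mul_assoc]

/-- the commutator of flag elements for three independent points -/
theorem fl_tri (hE : Pl V z E) (h : Ru V z) {p q w g a : G} (hi : Ind E p q w) (hg : Fl V E p w g)
    (ha : Fl V E q w a) : g * a = a * g * (p * q * w) := by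
  have hpp := hE.pt h hi.u_mem hi.u_ne
  have hqp := hE.pt h hi.v_mem hi.v_ne
  have hiq : Ind E q p w := hE.ind_swap h hi
  have hgK : g ∉ kq V q := fun e => hg.notMem (hE.bb_inf h hi ⟨hg.mem.1, e⟩ hg.mem)
  have haK : a ∉ kq V p := fun e => ha.notMem (hE.bb_inf h hiq ⟨ha.mem.1, e⟩ ha.mem)
  have h1 := hE.half h hi hg.mem.1 hgK ha
  have h2 := hE.half h hiq ha.mem.1 haK hg
  have hgi := h.inv_ws hpp hg.mem.1
  have hai := h.inv_ws hqp ha.mem.1
  set t := g * a * g⁻¹ * a with ht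
  have htE : t ∈ E := hE.comm_mem h hi.v_mem hi.v_ne
    (fun e he => hE.ws_comm h hi.u_mem hi.u_ne hg.mem.1 he) ha.mem.1
  have e1 : a * g * a⁻¹ * g = t := by
    have e2 : a * g * a⁻¹ * g = t⁻¹ := by
      rw [ht, mul_inv_rev, mul_inv_rev, mul_inv_rev, inv_inv, hai, hgi]; group
    rw [e2, hE.inv h htE]
  rw [e1] at h2
  have hpq : p * q = q * p := hE.comm h hi.u_mem hi.v_mem
  have h3 : t = p * q * w := by
    rcases h1 with e | e
    · rcases h2 with e' | e'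
      · exfalso
        rw [e] at e'
        exact hi.uv (mul_right_cancel e')
      · rw [e', hpq]
    · exact e
  have h4 : g * a = t * a * g := by
    rw [ht]
    calc g * a = g * a * (g⁻¹ * g) := by group
      _ = g * a * g⁻¹ * (a * a) * g := by rw [h.sq_ws hqp ha.mem.1]; group
      _ = g * a * g⁻¹ * a * a * g := by group
  have hat : a * t = t * a := hE.ws_comm h hi.v_mem hi.v_ne ha.mem.1 htE
  have hgt : g * t = t * g := hE.ws_comm h hi.u_mem hi.u_ne hg.mem.1 htE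
  rw [h4, ← h3]
  calc t * a * g = a * t * g := by rw [hat]
    _ = a * (t * g) := by group
    _ = a * g * t := by rw [← hgt]; group

end Pl

end Cfsg.Agent.Omega.RuShape.Base

end

section


/-!
# The Ru configuration: `C_G(E) = Y_E C_G(W_p)`

helper881's text #12858, (3.1), first line.
-/

set_option autoImplicit false
set_option linter.dupNamespace false
set_option linter.unusedSectionVars false

namespace Cfsg.Agent.Omega.RuShape.Base

open Subgroup Cfsg Cfsg.Agent.ZN Cfsg.Agent.MinSimple.Geo Cfsg.Agent.MinSimple.OddBase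
open Cfsg.Agent.OddCyclic Cfsg.Agent.OddCyclic.GamPerm Cfsg.Agent.OddCyclic.GamMod Cfsg.Agent.OddCyclic.GamLoc
open Cfsg.Agent.OddCyclic.GamBase (cc cc_surj cg_conj loc_conj ws_cj' lines_cj')
open Cfsg.Agent.ZN.Block (conj_mem_of_normalizer conj_mem_of_normalizer' le_normalizer_of_forall
  mem_normalizer_of)

universe u

variable {G : Type u} [Group G]

/-- `⟨W_p : p ∈ E#⟩` -/
def yy (V E : Subgroup G) : Subgroup G := closure {w | ∃ p ∈ E, p ≠ 1 ∧ w ∈ ws V p}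

theorem mem_yy {V E : Subgroup G} {p w : G} (hp : p ∈ E) (hp1 : p ≠ 1) (hw : w ∈ ws V p) : w ∈ yy V E :=
  Subgroup.subset_closure ⟨p, hp, hp1, hw⟩

namespace Pl

variable {V : Subgroup G} {z : G} [Finite G] {E : Subgroup G}

theorem exists_ind (hE : Pl V z E) (h : Ru V z) {p : G} (hp : p ∈ E) (hp1 : p ≠ 1) :
    ∃ q w, Ind E p q w := by
  have : ∃ b ∈ E, b ≠ 1 ∧ b ≠ p := by
    by_contra hcon
    push Not at hcon
    have h1 : (E : Set G) ⊆ {1, p} := by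
      intro t ht
      by_cases ht1 : t = 1
      · exact Or.inl ht1
      · exact Or.inr (hcon t ht ht1)
    have h2 := Set.ncard_le_ncard h1 (Set.toFinite _)
    have h3 : (E : Set G).ncard = 8 := by rw [← hE.card h]; rfl
    rw [h3, Set.ncard_pair hp1.symm] at h2
    omega
  obtain ⟨q, hq, hq1, hqp⟩ := this
  obtain ⟨w, hw⟩ := hE.exists_third h hp hq hp1 hq1 hqp.symm
  exact ⟨q, w, hw⟩

theorem yy_comm (hE : Pl V z E) (h : Ru V z) {y e : G} (hy : y ∈ yy V E) (he : e ∈ E) : y * e = e * y := by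
  have h1 : yy V E ≤ centralizer ({e} : Set G) := by
    unfold yy
    rw [closure_le]
    rintro w ⟨p, hp, hp1, hw⟩
    exact mem_centralizer_singleton_iff.mpr (hE.ws_comm h hp hp1 hw he)
  exact mem_centralizer_singleton_iff.mp (h1 hy)

/-- `C_G(E) = Y_E (C_G(E) ∩ K_p)` -/
theorem exists_k4 (hE : Pl V z E) (h : Ru V z) {p q w c : G} (hi : Ind E p q w)
    (hc : ∀ e ∈ E, c * e = e * c) : ∃ y ∈ yy V E, y⁻¹ * c ∈ kq V p := by
  have hp := hi.u_mem
  have hpp := hE.pt h hi.u_mem hi.u_ne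
  obtain ⟨ρ, hρ⟩ := h.loc_pt hpp
  obtain ⟨i, hEi⟩ := hE.exists_pg h hi.u_mem hi.u_ne hρ
  have hle := hE.le_ws h hi.u_mem hi.u_ne
  obtain ⟨g, hg, hg1⟩ := h.exists_act hpp hρ (hle hi.v_mem) hi.v_ne hi.uv.symm
  obtain ⟨k, hk, hk1⟩ := h.exists_act hpp hρ (hle hi.w_mem) hi.w_ne hi.uw.symm
  have hgK : g ∉ kq V p := fun e => hg1 ((mem_kq_iff hρ (c := h.el' hpp (hle hi.v_mem) hi.v_ne hg)).mp e)
  have hkK : k ∉ kq V p := fun e => hk1 ((mem_kq_iff hρ (c := h.el' hpp (hle hi.w_mem) hi.w_ne hk)).mp e)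
  have hgE : ∀ e ∈ E, g * e = e * g := fun e he => hE.ws_comm h hi.v_mem hi.v_ne hg he
  have hkE : ∀ e ∈ E, k * e = e * k := fun e he => hE.ws_comm h hi.w_mem hi.w_ne hk he
  have hne := hE.rho_ne h hi hg hgK hk hkK hρ hgE hkE
  have hg4 := hE.k4_elq h hp hgE hρ hEi
  have hk4 := hE.k4_elq h hp hkE hρ hEi
  have hc4 := hE.k4_elq h hp hc hρ hEi
  have hg1' : ρ (hE.elq h hp hgE) ≠ 1 := hg1
  have hk1' : ρ (hE.elq h hp hkE) ≠ 1 := hk1
  have hgY : g ∈ yy V E := mem_yy hi.v_mem hi.v_ne hg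
  have hkY : k ∈ yy V E := mem_yy hi.w_mem hi.w_ne hk
  have key : ∀ {m : G} (hm : ∀ e ∈ E, m * e = e * m), ρ (hE.elq h hp hm) = ρ (hE.elq h hp hc) →
      m⁻¹ * c ∈ kq V p := by
    intro m hm e
    have h1 : ρ ((hE.elq h hp hm)⁻¹ * hE.elq h hp hc) = 1 := by
      rw [map_mul, map_inv, e, inv_mul_cancel]
    exact (mem_kq_iff hρ (c := (hE.elq h hp hm)⁻¹ * hE.elq h hp hc)).mpr h1
  by_cases hc1 : ρ (hE.elq h hp hc) = 1
  · refine ⟨1, one_mem _, ?_⟩
    rw [inv_one, one_mul]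
    exact (mem_kq_iff hρ (c := hE.elq h hp hc)).mpr hc1
  by_cases e1 : ρ (hE.elq h hp hgE) = ρ (hE.elq h hp hc)
  · exact ⟨g, hgY, key hgE e1⟩
  by_cases e2 : ρ (hE.elq h hp hkE) = ρ (hE.elq h hp hc)
  · exact ⟨k, hkY, key hkE e2⟩
  · have h1 := k4_prod i _ hg4 _ hk4 _ hc4 hg1' hk1' hc1 hne e2 e1
    refine ⟨(g * k)⁻¹, inv_mem (mul_mem hgY hkY), ?_⟩
    rw [inv_inv]
    rw [← map_mul, ← map_mul] at h1
    exact (mem_kq_iff hρ (c := hE.elq h hp hgE * hE.elq h hp hkE * hE.elq h hp hc)).mpr h1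

/-- an element of `C_G(E) ∩ K_p` acts on `W_p` as an element of `Y_E` -/
theorem exists_kp (hE : Pl V z E) (h : Ru V z) {p q w c : G} (hi : Ind E p q w)
    (hc : ∀ e ∈ E, c * e = e * c) (hcK : c ∈ kq V p) :
    ∃ e ∈ yy V E, ∀ a ∈ ws V p, (e⁻¹ * c) * a = a * (e⁻¹ * c) := by
  have hp := hi.u_mem
  have hpp := hE.pt h hi.u_mem hi.u_ne
  obtain ⟨ρ, hρ⟩ := h.loc_pt hpp
  have tq := hi.two
  have tw : Two E p w := ⟨hi.u_mem, hi.w_mem, hi.u_ne, hi.w_ne, hi.uw⟩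
  have hqw : Ind E p q (q * w) := hE.ind_swap h (hE.ind_mul h (hE.ind_swap h hi))
  have hwq : Ind E p w (q * w) := by
    have h5 : Ind E w p q := hE.ind_rot h (hE.ind_rot h hi)
    have h7 : Ind E p w (w * q) := hE.ind_swap h (hE.ind_mul h h5)
    rwa [hE.comm h hi.w_mem hi.v_mem] at h7
  have tqw : Two E p (q * w) := ⟨hqw.u_mem, hqw.w_mem, hqw.u_ne, hqw.w_ne, hqw.uw⟩
  obtain ⟨a₁, h1⟩ := hE.exists_fl h tq
  obtain ⟨a₂, h2⟩ := hE.exists_fl h tw
  have n12 : a₁ ∉ bb V p w := fun e => h1.notMem (hE.bb_inf h hi h1.mem e)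
  have n21 : a₂ ∉ bb V p q := fun e => h2.notMem (hE.bb_inf h hi e h2.mem)
  have n13 : a₁ ∉ bb V p (q * w) := fun e => h1.notMem (hE.bb_inf h hqw h1.mem e)
  have n23 : a₂ ∉ bb V p (q * w) := fun e => h2.notMem (hE.bb_inf h hwq h2.mem e)
  -- it is enough to agree on `a₁` and `a₂`
  have key : ∀ e ∈ yy V E, c * a₁ * c⁻¹ = e * a₁ * e⁻¹ → c * a₂ * c⁻¹ = e * a₂ * e⁻¹ →
      ∃ e ∈ yy V E, ∀ a ∈ ws V p, (e⁻¹ * c) * a = a * (e⁻¹ * c) := by
    intro e he q1 q2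
    refine ⟨e, he, ?_⟩
    have adj : ∀ {a : G}, c * a * c⁻¹ = e * a * e⁻¹ → (e⁻¹ * c) * a = a * (e⁻¹ * c) := by
      intro a ha
      apply mul_inv_eq_iff_eq_mul.mp
      calc e⁻¹ * c * a * (e⁻¹ * c)⁻¹ = e⁻¹ * (c * a * c⁻¹) * e := by group
        _ = a := by rw [ha]; group
    set b := e⁻¹ * c with hb
    have b1 := adj q1
    have b2 := adj q2
    have bE : ∀ t ∈ E, b * t = t * b := by
      intro t ht
      apply adj
      rw [hc t ht, hE.yy_comm h he ht, mul_inv_cancel_right, mul_inv_cancel_right]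
    have c1 := hE.card_bb h tq.u_mem tq.v_mem tq.u_ne tq.v_ne tq.uv
    have h16 : ∀ t ∈ bb V p q, b * t = t * b := by
      intro t ht
      by_cases htE : t ∈ E
      · exact bE t htE
      · have h3 : a₁ * t ∈ E := mul_mem_of_two (hE.le_bb h tq.u_mem tq.v_mem tq.u_ne tq.v_ne)
          (by rw [hE.card h, c1]) (by rw [hE.card h]; norm_num) h1.mem ht h1.notMem htE
        have h4 := bE _ h3
        have h5 : t = a₁⁻¹ * (a₁ * t) := by group
        have c3 : Commute b a₁ := b1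
        have c4 : Commute b (a₁ * t) := h4
        rw [h5]; exact (c3.inv_right.mul_right c4)
    intro t ht
    by_cases htb : t ∈ bb V p q
    · exact h16 t htb
    · have h3 : a₂ * t ∈ bb V p q := mul_mem_of_two (bb_le V _ _)
        (by rw [hρ.card, c1]) (by rw [c1]; norm_num) h2.mem.1 ht n21 htb
      have h4 := h16 _ h3
      have h5 : t = a₂⁻¹ * (a₂ * t) := by group
      have c3 : Commute b a₂ := b2
      have c4 : Commute b (a₂ * t) := h4
      rw [h5]; exact (c3.inv_right.mul_right c4)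
  have hfix : ∀ {e a : G}, e * a = a * e → e * a * e⁻¹ = a := fun e1 => by rw [e1, mul_inv_cancel_right]
  rcases h.kq_act hpp hcK h1.mem.1 with c1 | c1 <;> rcases h.kq_act hpp hcK h2.mem.1 with c2 | c2
  · exact key 1 (one_mem _) (by rw [c1]; group) (by rw [c2]; group)
  · obtain ⟨e, he⟩ := hE.exists_fl h tq.swap
    refine key e (mem_yy tq.v_mem tq.v_ne he.mem.1) ?_ ?_
    · rcases hE.fl_act h tq he h1.mem.1 with ⟨_, e1⟩ | ⟨e1, _⟩
      · rw [c1, hfix e1]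
      · exact absurd h1.mem e1
    · rcases hE.fl_act h tq he h2.mem.1 with ⟨e1, _⟩ | ⟨_, e1⟩
      · exact absurd e1 n21
      · rw [c2, e1]
  · obtain ⟨e, he⟩ := hE.exists_fl h tw.swap
    refine key e (mem_yy tw.v_mem tw.v_ne he.mem.1) ?_ ?_
    · rcases hE.fl_act h tw he h1.mem.1 with ⟨e1, _⟩ | ⟨_, e1⟩
      · exact absurd e1 n12
      · rw [c1, e1]
    · rcases hE.fl_act h tw he h2.mem.1 with ⟨_, e1⟩ | ⟨e1, _⟩
      · rw [c2, hfix e1]
      · exact absurd h2.mem e1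
  · obtain ⟨e, he⟩ := hE.exists_fl h tqw.swap
    refine key e (mem_yy tqw.v_mem tqw.v_ne he.mem.1) ?_ ?_
    · rcases hE.fl_act h tqw he h1.mem.1 with ⟨e1, _⟩ | ⟨_, e1⟩
      · exact absurd e1 n13
      · rw [c1, e1]
    · rcases hE.fl_act h tqw he h2.mem.1 with ⟨e1, _⟩ | ⟨_, e1⟩
      · exact absurd e1 n23
      · rw [c2, e1]

/-- `C_G(E) = Y_E C_G(W_p)` -/
theorem exists_cent (hE : Pl V z E) (h : Ru V z) {p c : G} (hp : p ∈ E) (hp1 : p ≠ 1)
    (hc : ∀ e ∈ E, c * e = e * c) :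
    ∃ y ∈ yy V E, ∃ b : G, (∀ a ∈ ws V p, b * a = a * b) ∧ c = y * b := by
  obtain ⟨q, w, hi⟩ := hE.exists_ind h hp hp1
  obtain ⟨y, hy, hyc⟩ := hE.exists_k4 h hi hc
  have hyc' : ∀ e ∈ E, (y⁻¹ * c) * e = e * (y⁻¹ * c) := by
    intro e he
    have c1 : Commute y e := hE.yy_comm h hy he
    have c2 : Commute c e := hc e he
    exact c1.inv_left.mul_left c2
  obtain ⟨e, he, hb⟩ := hE.exists_kp h hi hyc' hyc
  exact ⟨y * e, mul_mem hy he, e⁻¹ * (y⁻¹ * c), hb, by group⟩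

end Pl

end Cfsg.Agent.Omega.RuShape.Base

end

section


/-!
# The Ru configuration: the planes satisfy helper409's structure `NOThree.Ru.Plane`
-/

set_option autoImplicit false
set_option linter.dupNamespace false
set_option linter.unusedSectionVars false

namespace Cfsg.Agent.Omega.RuShape.Base

open Subgroup Cfsg Cfsg.Agent.ZN Cfsg.Agent.MinSimple.Geo Cfsg.Agent.MinSimple.OddBase
open Cfsg.Agent.OddCyclic Cfsg.Agent.OddCyclic.GamPerm Cfsg.Agent.OddCyclic.GamMod Cfsg.Agent.OddCyclic.GamLoc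
open Cfsg.Agent.OddCyclic.GamBase (cc cc_surj cg_conj loc_conj ws_cj' lines_cj')
open Cfsg.Agent.ZN.Block (conj_mem_of_normalizer conj_mem_of_normalizer' le_normalizer_of_forall
  mem_normalizer_of)

universe u

variable {G : Type u} [Group G]

namespace Pl

variable {V : Subgroup G} {z : G} [Finite G] {E : Subgroup G}

theorem fl_iff {V E : Subgroup G} {p q g : G} :
    NOThree.Ru.Fl E (ws V) (kq V) p q g ↔ Fl V E p q g :=
  ⟨fun h => ⟨⟨h.mem, h.memK⟩, h.notMem⟩, fun h => ⟨h.mem.1, h.notMem, h.mem.2⟩⟩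

theorem ind_iff {E : Subgroup G} {p q w : G} : NOThree.Ru.Ind E p q w ↔ Ind E p q w :=
  ⟨fun h => ⟨h.p_mem, h.q_mem, h.w_mem, h.p_ne, h.q_ne, h.w_ne, h.pq, h.pw, h.qw, h.pqw⟩,
    fun h => ⟨h.u_mem, h.v_mem, h.w_mem, h.u_ne, h.v_ne, h.uv, h.w_ne, h.uw, h.vw, h.uvw⟩⟩

theorem yu_eq (V E : Subgroup G) : NOThree.Ru.YU E (ws V) = yy V E := rfl

theorem two_of {E : Subgroup G} {p q : G} (hp : p ∈ E) (hp1 : p ≠ 1) (hq : q ∈ E) (hq1 : q ≠ 1)
    (hpq : p ≠ q) : Two E p q := ⟨hp, hq, hp1, hq1, hpq⟩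

theorem plane (hE : Pl V z E) (h : Ru V z) : NOThree.Ru.Plane z E (ws V) (kq V) (ll V) where
  card_U := hE.card h
  sq_U := fun u hu => hE.sq h hu
  pt := fun u hu hu1 => by
    obtain ⟨g, hg⟩ := hE.pt h hu hu1
    exact ⟨g, hg.symm⟩
  two := by
    obtain ⟨x, u, hx, hu, hu1, hux, hEE⟩ := hE
    have hxE : x ∈ E := by rw [hEE]; exact ⟨h.self_mem hx, h.mem_symm hx hu hu1⟩
    have huE : u ∈ E := by rw [hEE]; exact ⟨hu, h.self_mem (h.pt hx hu hu1)⟩
    refine h.isPGroup_pair hx hu hu1 hux (fun k hk => (mem_centralizer_iff.mp hk x hxE).symm) ?_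
    intro k hk
    left
    rw [← mem_centralizer_iff.mp hk u huE, mul_inv_cancel_right]
  cj_W := cj_ws V
  cj_K := cj_kq V
  cj_L := cj_ll V
  U_le := fun p hp hp1 => hE.le_ws h hp hp1
  sq_W := fun p hp hp1 w hw => h.sq_ws (hE.pt h hp hp1) hw
  card_W := fun p hp hp1 => by
    obtain ⟨ρ, hρ⟩ := h.loc_pt (hE.pt h hp hp1)
    exact hρ.card
  inf_W := fun p hp hp1 q hq hq1 hpq => (hE.eq_inf h hp hp1 hq hq1 hpq).symm
  K_cent := fun p _ _ k hk => mem_centralizer_singleton_iff.mp (kq_le V p hk)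
  K_act := fun p hp hp1 k hk w hw => h.kq_act (hE.pt h hp hp1) hk hw
  K_fix := fun p hp hp1 w hw hk => by
    by_contra hcon
    push Not at hcon
    have hpp := hE.pt h hp hp1
    obtain ⟨ρ, hρ⟩ := h.loc_pt hpp
    obtain ⟨k, hk1, hk2⟩ := h.exists_neg hpp hρ hw hcon.1 hcon.2
    have h1 := hk k ((mem_kq_iff hρ).mpr hk1)
    rw [h1, mul_inv_cancel_right] at hk2
    exact hp1 (by simpa using hk2.symm)
  exists_fl := fun p hp hp1 q hq hq1 hpq => by
    obtain ⟨g, hg⟩ := hE.exists_fl h (two_of hp hp1 hq hq1 hpq)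
    exact ⟨g, fl_iff.mpr hg⟩
  fl_mul := fun p hp hp1 q hq hq1 hpq g hg =>
    fl_iff.mpr ((hE.fl_same h (two_of hp hp1 hq hq1 hpq)).mpr (fl_iff.mp hg))
  fl_index := fun p hp hp1 q hq hq1 hpq a ha b hb haK hbK => by
    obtain ⟨ρ, hρ⟩ := h.loc_pt (hE.pt h hp hp1)
    have h1 := hE.card_bb h hp hq hp1 hq1 hpq
    exact (mul_mem_of_two (bb_le V p q) (by rw [hρ.card, h1]) (by rw [h1]; norm_num) ha hb
      (fun e => haK e.2) (fun e => hbK e.2)).2
  fl_comm := fun p hp hp1 q hq hq1 hpq g g' hg hg' =>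
    hE.bb_comm h hp hq hp1 hq1 hpq (fl_iff.mp hg).mem (fl_iff.mp hg').mem
  fl_act := fun p hp hp1 q hq hq1 hpq g g' hg hg' hgK => by
    have h1 := hE.bb_act h hq hp hq1 hp1 hpq.symm hg' (fun e => hgK e.2) (fl_iff.mp hg).mem hg.notMem
    rw [mul_inv_eq_iff_eq_mul.mp h1, mul_assoc, mul_assoc]
    congr 1
    exact (hE.ws_comm h hp hp1 hg.mem hq).symm
  fl_tri := fun p q w hi g g' hg hg' => hE.fl_tri h (ind_iff.mp hi) (fl_iff.mp hg) (fl_iff.mp hg')
  cent := fun p hp hp1 c hc => by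
    obtain ⟨y, hy, b, hb, e⟩ := hE.exists_cent h hp hp1 (c := c)
      (fun e he => (mem_centralizer_iff.mp hc e he).symm)
    exact ⟨y, hy, b, mem_centralizer_iff.mpr fun a ha => (hb a ha).symm, e⟩
  L_cent := fun p hp hp1 l hl => mem_centralizer_singleton_iff.mp (h.ll_le (hE.pt h hp hp1) hl)
  W_le_L := fun p hp hp1 q hq hq1 => by
    by_cases hqp : q = p
    · rw [hqp]; exact h.ws_le_ll (hE.pt h hp hp1)
    · exact ws_le_ll' (hE.le_ws h hp hp1 hq) hq1 hqp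
  L_B := fun p hp hp1 l hl b hb => by
    have h1 := h.ll_comm (hE.pt h hp hp1) hl (c := b) (fun w hw => (mem_centralizer_iff.mp hb w hw).symm)
    have h2 : l * b * l⁻¹ * b⁻¹ = (b * l * b⁻¹ * l⁻¹)⁻¹ := by group
    rw [h2]; exact inv_mem h1
  L_tv := fun p u w hi => by
    obtain ⟨l, hl, _, h1, h2⟩ := hE.exists_ll_trv h (ind_iff.mp hi)
    exact ⟨l, hl, h1, h2⟩
  L_gen := fun p hp hp1 c hc l hl => by
    obtain ⟨q, w, hi⟩ := hE.exists_ind h hp hp1
    exact h.ll_gen (hE.pt h hp hp1) (hE.le_ws h hp hp1 hi.v_mem) hi.v_ne hi.uv.symm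
      (fun l hl => hc l hl q hi.v_mem hi.v_ne) hl
  L_inf := fun p hp hp1 q hq hq1 hpq c h1 h2 =>
    h.ll_inf (hE.pt h hp hp1) (hE.le_ws h hp hp1 hq) hq1 hpq.symm h1 h2

end Pl

end Cfsg.Agent.Omega.RuShape.Base

end

section


/-!
# The Ru configuration: the planes on `z`; the end of helper881's text #12858

`Ru.planes` : the input of helper391's `NOThree.Ru.Planes`; `Ru.false_of` : if every conjugate of `z` centralises an
element of every plane, then `Ru V z` is impossible.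
-/

set_option autoImplicit false
set_option linter.dupNamespace false
set_option linter.unusedSectionVars false

namespace Cfsg.Agent.Omega.RuShape.Base

open Subgroup Cfsg Cfsg.Agent.ZN Cfsg.Agent.MinSimple.Geo Cfsg.Agent.MinSimple.OddBase
open Cfsg.Agent.OddCyclic Cfsg.Agent.OddCyclic.GamPerm Cfsg.Agent.OddCyclic.GamMod Cfsg.Agent.OddCyclic.GamLoc
open Cfsg.Agent.OddCyclic.GamBase (cc cc_surj cg_conj loc_conj ws_cj' lines_cj')

universe u

variable {G : Type u} [Group G]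

namespace Ru

variable {V : Subgroup G} {z : G} [Finite G]

/-- an element of `pg i` outside `⟨x⟩` -/
theorem exists_mem_pg {W : Subgroup G} {x : G} {ρ : centralizer ({x} : Set G) →* S5} (hρ : Loc W x ρ)
    (i : Fin 5) : ∃ u ∈ hρ.pg i, u ≠ 1 ∧ u ≠ x := by
  by_contra hcon
  push Not at hcon
  have h1 : ((hρ.pg i : Subgroup G) : Set G) ⊆ {1, x} := by
    intro t ht
    by_cases ht1 : t = 1
    · exact Or.inl ht1
    · exact Or.inr (hcon t ht ht1)
  have h2 := Set.ncard_le_ncard h1 (Set.toFinite _)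
  have h3 : ((hρ.pg i : Subgroup G) : Set G).ncard = 8 := by rw [← hρ.card_pg i]; rfl
  rw [h3, Set.ncard_pair hρ.x_ne.symm] at h2
  omega

theorem pl_pg (h : Ru V z) {x : G} (hx : Pt z x) {ρ : centralizer ({x} : Set G) →* S5}
    (hρ : Loc (ws V x) x ρ) (i : Fin 5) : Pl V z (hρ.pg i) := by
  obtain ⟨u, hu, hu1, hux⟩ := exists_mem_pg hρ i
  exact ⟨x, u, hx, hρ.pg_le i hu, hu1, hux, (h.plane_eq hx hρ hu1 hux hu).symm⟩

theorem pg_injective (_ : Ru V z) {x : G} {ρ : centralizer ({x} : Set G) →* S5}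
    (hρ : Loc (ws V x) x ρ) : Function.Injective fun i => hρ.pg i := by
  intro i j hij
  by_contra hne
  obtain ⟨u, hu, hu1, hux⟩ := exists_mem_pg hρ i
  have hu' : u ∈ hρ.pg j := by
    have e : hρ.pg i = hρ.pg j := hij
    rw [← e]; exact hu
  rcases hρ.pg_inf hne hu hu' with e | e
  · exact hu1 e
  · exact hux e

/-- the planes on `z` -/
theorem planes (h : Ru V z)
    (hcent : ∀ E, Pl V z E → ∀ g : G, ∃ u ∈ E, u ≠ 1 ∧ g * z * g⁻¹ * u = u * (g * z * g⁻¹)) :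
    NOThree.Ru.Planes z {E | Pl V z E} (ws V z) := by
  have hz := Pt.refl z
  obtain ⟨ρ, hρ⟩ := h.loc_pt hz
  exact
    { zz := h.xx hz
      z_ne := h.z_ne
      conj := fun U hU g => hU.conj g
      sq := fun U hU u hu => hU.sq h hu
      uniq := fun U hU U' hU' a ha b hb ha' hb' ha1 hb1 hab => by
        rw [hU.eq_inf h ha ha1 hb hb1 hab]
        exact (hU'.eq_inf h ha' ha1 hb' hb1 hab).symm
      cover := fun w hw => by
        obtain ⟨i, hi⟩ := hρ.exists_pg hw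
        exact ⟨hρ.pg i, h.pl_pg hz hρ i, hρ.x_mem_pg i, hi⟩
      le := fun U hU hzU => hU.le_ws h hzU h.z_ne
      five := by
        have e : {U | U ∈ {E | Pl V z E} ∧ z ∈ U} = Set.range fun i => hρ.pg i := by
          ext U
          constructor
          · rintro ⟨hU, hzU⟩
            obtain ⟨i, hi⟩ := Pl.exists_pg hU h hzU h.z_ne hρ
            exact ⟨i, hi.symm⟩
          · rintro ⟨i, rfl⟩
            exact ⟨h.pl_pg hz hρ i, hρ.x_mem_pg i⟩
        rw [e, ← Set.image_univ, Set.ncard_image_of_injective _ (h.pg_injective hρ), Set.ncard_univ,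
          Nat.card_fin]
      card_W := hρ.card
      cent := hcent }

/-- the end of the text #12858 -/
theorem false_of (h : Ru V z)
    (hcent : ∀ E, Pl V z E → ∀ g : G, ∃ u ∈ E, u ≠ 1 ∧ g * z * g⁻¹ * u = u * (g * z * g⁻¹)) : False := by
  have h1 := (h.planes hcent).mem_pCore
  have h2 : pCore 2 G = ⊥ := by
    haveI := Cfsg.Agent.Lib.Cores.pCore_normal (G := G) 2
    have hn : normalizer ((pCore 2 G : Subgroup G) : Set G) = ⊤ := Subgroup.normalizer_eq_top _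
    refine h.core _ ?_ ?_ ?_
    · exact Cfsg.Agent.Lib.Cores.pCore_isPGroup 2
    · rw [hn]; exact le_top
    · rw [hn]; exact le_top
  rw [h2, mem_bot] at h1
  exact h.z_ne h1

end Ru

end Cfsg.Agent.Omega.RuShape.Base

end
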