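import Mathlib
import Cfsg.Agent.Mrg.Omega.NOne.Nat
import Cfsg.Agent.Mrg.Omega.NOThree.Ru.Table


/-!
# helper881's text #12858: `q = 2`, `n = 1`, `M_x` natural for `SL₂(q')`, `q' ≥ 4`, is impossible

* `Ru.false` : the Ru configuration is impossible in a group of characteristic 2 type;
* `natural_false` : `One T V z`, no 2-subgroup `≠ 1` normal in `N(V)` and `C(z)`, `W_z/⟨z⟩` a natural `SL₂(F)`-module for
  `C(z)`, `4 ≤ |F|`: contradiction.
-/

set_option autoImplicit false
set_option linter.unusedSectionVars false

namespace Cfsg.Agent.Omega.RuShape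

open Subgroup Cfsg Cfsg.Agent.MinSimple.Geo

universe u

variable {G : Type u} [Group G] [Finite G] {T V : Subgroup G} {z : G}

/-- the Ru configuration is impossible in a group of characteristic 2 type -/
theorem Base.Ru.false (hc : IsCharacteristicTwoType G) (h : Base.Ru V z) : False :=
  h.false_of_second fun _ hE => (hE.plane h).second hc

/-- **helper881's text #12858.** -/
theorem natural_false {F : Type*} [Field F] [Finite F] [CharP F 2] (h : NO3S.TwoOne.One T V z)
    (core : ∀ U : Subgroup G, IsPGroup 2 U → normalizer (V : Set G) ≤ normalizer (U : Set G) →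
      centralizer ({z} : Set G) ≤ normalizer (U : Set G) → U = ⊥)
    (D : SQ1.FFOne.NatSec F (centralizer ({z} : Set G)) (ws V z) (zpowers z)) (h4 : 4 ≤ Nat.card F) : False :=
  Base.Ru.false h.ln.charTwo (OfOne.ru_of_one h core D h4)

end Cfsg.Agent.Omega.RuShape
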